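import Groth.Agent.Lib.GeomFF26.Basic
import Mathlib.RingTheory.Polynomial.GaussLemma
import Mathlib.RingTheory.AdjoinRoot
import Mathlib.RingTheory.TensorProduct.Basic
import Mathlib.LinearAlgebra.TensorProduct.RightExactness
import Mathlib.RingTheory.Flat.Basic

/-! # Criteria to be geometric -/

namespace Groth.Agent.GeomFF26

open FunFld Polynomial
open scoped TensorProduct

universe u v

variable {k : Type u} {K : Type v} [Field k] [Field K] [Algebra k K]

/-- An irreducible polynomial stays irreducible when the constants are algebraically closed in `K`. -/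
theorem irreducible_map (hcl : ∀ y : K, IsAlgebraic k y → y ∈ Set.range (algebraMap k K)) {f : k[X]}
    (hf : f.Monic) (hirr : Irreducible f) : Irreducible (f.map (algebraMap k K)) := by
  have hfK := hf.map (algebraMap k K)
  have hne1 : f.map (algebraMap k K) ≠ 1 := fun e => hirr.ne_one (map_injective _ (algebraMap k K).injective (by rw [e, Polynomial.map_one]))
  rw [Polynomial.irreducible_of_monic hfK hne1]
  intro a b ha hb hab
  have hlift : ∀ g : K[X], g.Monic → g ∣ f.map (algebraMap k K) → ∃ g' : k[X], g'.map (algebraMap k K) = g := by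
    intro g hg hd
    have h1 := integralClosure.mem_lifts_of_monic_of_dvd_map (R := k) K hf hg hd
    rw [lifts_iff_coeff_lifts] at h1
    have h2 : g ∈ lifts (algebraMap k K) := by
      rw [lifts_iff_coeff_lifts]
      intro n
      obtain ⟨z, hz⟩ := h1 n
      rw [← hz]
      exact hcl _ (IsIntegral.isAlgebraic z.2)
    exact h2
  obtain ⟨a', rfl⟩ := hlift a ha ⟨b, hab.symm⟩
  obtain ⟨b', rfl⟩ := hlift b hb ⟨a'.map (algebraMap k K), by rw [mul_comm]; exact hab.symm⟩
  rw [← Polynomial.map_mul] at hab
  have ha' : a'.Monic := Polynomial.monic_of_injective (algebraMap k K).injective ha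
  have hb' : b'.Monic := Polynomial.monic_of_injective (algebraMap k K).injective hb
  rcases (Polynomial.irreducible_of_monic hf hirr.ne_one).1 hirr a' b' ha' hb' (map_injective _ (algebraMap k K).injective hab) with h | h
  · exact Or.inl (by rw [h, Polynomial.map_one])
  · exact Or.inr (by rw [h, Polynomial.map_one])

/-- The tensor product with a finite separable extension of the constants is a field. -/
theorem isField_tensor (hcl : ∀ y : K, IsAlgebraic k y → y ∈ Set.range (algebraMap k K))
    (k' : Type u) [Field k'] [Algebra k k'] [FiniteDimensional k k'] [Algebra.IsSeparable k k'] :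
    IsField (k' ⊗[k] K) := by
  let pb := Field.powerBasisOfFiniteOfSeparable k k'
  have hint := pb.isIntegral_gen
  haveI := Fact.mk (irreducible_map (K := K) hcl (minpoly.monic hint) (minpoly.irreducible hint))
  let R : K →+* k' ⊗[k] K := (Algebra.TensorProduct.includeRight : K →ₐ[k] k' ⊗[k] K).toRingHom
  have hroot : ((minpoly k pb.gen).map (algebraMap k K)).eval₂ R (pb.gen ⊗ₜ[k] (1 : K)) = 0 := by
    rw [eval₂_map]
    have : R.comp (algebraMap k K) = algebraMap k (k' ⊗[k] K) :=
      RingHom.ext fun c => (Algebra.TensorProduct.includeRight : K →ₐ[k] k' ⊗[k] K).commutes c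
    rw [this, show pb.gen ⊗ₜ[k] (1 : K) = (Algebra.TensorProduct.includeLeft : k' →ₐ[k] k' ⊗[k] K) pb.gen from rfl,
      ← aeval_def, Polynomial.aeval_algHom_apply, minpoly.aeval, map_zero]
  let Φ := AdjoinRoot.lift R _ hroot
  have hgen : ∀ a : k', a ⊗ₜ[k] (1 : K) ∈ Φ.range := by
    intro a
    obtain ⟨g, -, rfl⟩ := pb.exists_eq_aeval' a |>.elim fun g hg => (⟨g, trivial, hg⟩ : ∃ g : k[X], True ∧ a = aeval pb.gen g)
    refine ⟨AdjoinRoot.mk _ (g.map (algebraMap k K)), ?_⟩
    rw [AdjoinRoot.lift_mk, eval₂_map]
    have : R.comp (algebraMap k K) = algebraMap k (k' ⊗[k] K) :=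
      RingHom.ext fun c => (Algebra.TensorProduct.includeRight : K →ₐ[k] k' ⊗[k] K).commutes c
    rw [this, show pb.gen ⊗ₜ[k] (1 : K) = (Algebra.TensorProduct.includeLeft : k' →ₐ[k] k' ⊗[k] K) pb.gen from rfl,
      ← aeval_def, Polynomial.aeval_algHom_apply]
    rfl
  have hsurj : Function.Surjective Φ := fun z => by
    suffices z ∈ Φ.range from this
    induction z using TensorProduct.induction_on with
    | zero => exact zero_mem _
    | add x y hx hy => exact add_mem hx hy
    | tmul a b =>
      rw [show a ⊗ₜ[k] b = (a ⊗ₜ[k] (1 : K)) * ((1 : k') ⊗ₜ[k] b) by simp]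
      exact mul_mem (hgen a) ⟨AdjoinRoot.of _ b, by rw [AdjoinRoot.lift_of]; rfl⟩
  haveI : Nontrivial (k' ⊗[k] K) :=
    (Algebra.TensorProduct.includeRight_injective (R := k) (A := k') (B := K) (algebraMap k k').injective).nontrivial
  exact MulEquiv.isField (Field.toIsField _) (RingEquiv.ofBijective Φ ⟨Φ.injective, hsurj⟩).symm.toMulEquiv

theorem isGeometric_of_perfect [PerfectField k]
    (hcl : ∀ y : K, IsAlgebraic k y → y ∈ Set.range (algebraMap k K)) : IsGeometric k K :=
  fun k' _ _ h => by
    haveI := h
    exact isField_tensor hcl k'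

theorem isGeometric_of_isAlgClosed [IsAlgClosed k] : IsGeometric k K :=
  isGeometric_of_perfect fun y hy => minpoly.mem_range_of_degree_eq_one k y
    (IsAlgClosed.degree_eq_one_of_irreducible k (minpoly.irreducible hy.isIntegral))

/-- A subfield of a geometric extension is geometric. -/
theorem isGeometric_intermediateField (hg : IsGeometric k K) (K₀ : IntermediateField k K) : IsGeometric k K₀ := by
  intro k' _ _ hfin
  haveI := hfin
  let F := hg k' hfin
  letI := F.toField
  let ι : k' ⊗[k] K₀ →ₐ[k'] k' ⊗[k] K := Algebra.TensorProduct.map (AlgHom.id k' k') K₀.val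
  have hinj : Function.Injective ι :=
    Module.Flat.lTensor_preserves_injective_linearMap (M := k') K₀.val.toLinearMap K₀.val.injective
  haveI : IsDomain (k' ⊗[k] K₀) := hinj.isDomain ι.toRingHom
  letI i : Algebra K₀ (k' ⊗[k] K₀) := Algebra.TensorProduct.rightAlgebra
  letI : Module K₀ (k' ⊗[k] K₀) := i.toModule
  haveI : Module.Finite K₀ (k' ⊗[k] K₀) :=
    Module.Finite.equiv (Algebra.TensorProduct.commRight k K₀ k').toLinearEquiv
  exact (fieldOfFiniteDimensional K₀ (k' ⊗[k] K₀)).toIsField

theorem isFunctionField_intermediateField (hK : IsFunctionField k K) (K₀ : IntermediateField k K)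
    (h₀ : ∃ x ∈ K₀, Transcendental k x) : IsFunctionField k K₀ := by
  obtain ⟨x, hx0, hx⟩ := h₀
  have hx' : Transcendental k (⟨x, hx0⟩ : K₀) := fun ha => hx (ha.algebraMap (A := K))
  refine ⟨⟨_, hx', ?_⟩, fun y hy => ?_⟩
  · haveI := FunField.FF.finiteDimensional hK.1 hx
    set E := IntermediateField.adjoin k ({(⟨x, hx0⟩ : K₀)} : Set K₀) with hE
    have hmap : E.map K₀.val = IntermediateField.adjoin k ({x} : Set K) := by
      rw [hE, IntermediateField.adjoin_map, Set.image_singleton]; rfl
    let e : IntermediateField.adjoin k ({x} : Set K) ≃+* E :=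
      ((IntermediateField.equivOfEq hmap.symm).trans (IntermediateField.equivMap E K₀.val).symm).toRingEquiv
    haveI : FiniteDimensional E K := by
      refine Module.Finite.of_equiv_equiv e (RingEquiv.refl K) (RingHom.ext fun a => ?_)
      have h2 : ∀ b : E.map K₀.val, ((((IntermediateField.equivMap E K₀.val).symm b : E) : K₀) : K) = (b : K) := by
        intro b
        have := congrArg Subtype.val ((IntermediateField.equivMap E K₀.val).apply_symm_apply b)
        exact this
      exact h2 (IntermediateField.equivOfEq hmap.symm a)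
    exact Module.Finite.of_injective (IsScalarTower.toAlgHom E K₀ K).toLinearMap Subtype.val_injective
  · obtain ⟨c, hc⟩ := hK.2 (y : K) (hy.algebraMap (A := K))
    exact ⟨c, Subtype.ext hc⟩

end Groth.Agent.GeomFF26
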