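import Groth.Agent.Lib.GeomFF26.Expansion
import Groth.Agent.Lib.GeomFF26.Perfect
import Mathlib.RingTheory.Unramified.Field
import Mathlib.LinearAlgebra.Dual.Lemmas
import Mathlib.FieldTheory.PurelyInseparable.PerfectClosure

/-! # Expansions over the constants exist only at separable places -/

namespace Groth.Agent.GeomFF26

open FunFld FunField Wronskian26 WithZero
open scoped IntermediateField
open scoped Multiplicative

universe u v w

variable {k : Type u} {K : Type v} [Field k] [Field K] [Algebra k K]
  {F : Type w} [Field F] [Algebra k F]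
  {wv : Valuation K ℤᵐ⁰} {φ : K →ₐ[k] LaurentSeries F}

theorem exists_approx_of_le_one (hφ : LocRes.IsExpansionAt wv φ) (n : ℕ) {f : LaurentSeries F}
    (hf : Valued.v f ≤ 1) : ∃ y : K, Valued.v (φ y - f) ≤ exp (-(n : ℤ)) := by
  obtain ⟨t, ht⟩ := hφ.2.2
  induction n with
  | zero => exact ⟨0, by simpa using hf⟩
  | succ n ih =>
    obtain ⟨y, hy⟩ := ih
    have hT : Valued.v (φ t ^ n) = exp (-(n : ℤ)) := by
      rw [map_pow, hφ.1, ht, ← exp_nsmul]; simp
    have hT0 : φ t ^ n ≠ 0 := fun h0 => exp_ne_zero (hT.symm.trans (by rw [h0, map_zero]))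
    set r := (f - φ y) / φ t ^ n
    have hr : Valued.v r ≤ 1 := by
      rw [map_div₀, div_le_one₀ (by rw [hT]; exact WithZero.exp_pos), hT, Valuation.map_sub_swap]
      exact hy
    obtain ⟨z, hz, hz0⟩ := hφ.2.1 (r.coeff 0)
    have hrz : Valued.v (r - φ z) ≤ exp (-(1 : ℤ)) := by
      rw [LaurentSeries.valuation_le_iff_coeff_lt_eq_zero]
      intro m hm
      have h1 := (LaurentSeries.valuation_le_iff_coeff_lt_eq_zero F (D := 0)).1
        (by simpa using hr) (n := m)
      have h2 := (LaurentSeries.valuation_le_iff_coeff_lt_eq_zero F (D := 0)).1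
        (show Valued.v (φ z) ≤ exp (-(0 : ℤ)) by simpa [hφ.1] using hz) (n := m)
      rcases lt_or_eq_of_le (show m ≤ 0 by omega) with hm0 | rfl
      · rw [HahnSeries.coeff_sub, h1 hm0, h2 hm0, sub_zero]
      · rw [HahnSeries.coeff_sub, hz0, sub_self]
    refine ⟨y + t ^ n * z, ?_⟩
    have e : φ (y + t ^ n * z) - f = -(φ t ^ n * (r - φ z)) := by
      rw [mul_sub, show φ t ^ n * r = f - φ y from mul_div_cancel₀ _ hT0, map_add, map_mul, map_pow]
      ring
    rw [e, Valuation.map_neg, map_mul, hT]
    refine (mul_le_mul_right hrz _).trans ?_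
    rw [← exp_add, exp_le_exp]; push_cast; omega

/-- The image of an expansion is dense. -/
theorem exists_approx (hφ : LocRes.IsExpansionAt wv φ) (f : LaurentSeries F) (n : ℤ) :
    ∃ y : K, Valued.v (φ y - f) ≤ exp (-n) := by
  obtain ⟨t, ht⟩ := hφ.2.2
  obtain ⟨m, hm⟩ : ∃ m : ℕ, Valued.v f ≤ exp (m : ℤ) := by
    rcases eq_or_ne (Valued.v f) 0 with h0 | h0
    · exact ⟨0, by rw [h0]; exact zero_le⟩
    · exact ⟨(WithZero.log (Valued.v f)).toNat, by rw [← log_le_iff_le_exp h0]; omega⟩
  have hT : Valued.v (φ t ^ m) = exp (-(m : ℤ)) := by rw [map_pow, hφ.1, ht, ← exp_nsmul]; simp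
  have hT0 : φ t ^ m ≠ 0 := fun h0 => exp_ne_zero (hT.symm.trans (by rw [h0, map_zero]))
  obtain ⟨z, hz⟩ := exists_approx_of_le_one hφ (n + m).toNat (f := φ t ^ m * f) (by
    rw [map_mul, hT]; refine (mul_le_mul_right hm _).trans_eq ?_; rw [← exp_add]; simp)
  refine ⟨z / t ^ m, ?_⟩
  have e : φ (z / t ^ m) - f = (φ z - φ t ^ m * f) * (φ t ^ m)⁻¹ := by
    rw [map_div₀, map_pow, sub_mul, ← div_eq_mul_inv, mul_right_comm, mul_inv_cancel₀ hT0, one_mul]
  rw [e, map_mul, map_inv₀, hT]
  refine (mul_le_mul_left hz _).trans ?_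
  rw [← exp_neg, ← exp_add, exp_le_exp]
  omega

/-- A nonzero differential stays nonzero in every expansion. -/
theorem D_map_ne_zero (hφ : LocRes.IsExpansionAt wv φ) (h : FF k K) (hg : IsGeometric k K) {x : K}
    (hx : KaehlerDifferential.D k K x ≠ 0) : LocRes.D F (φ x) ≠ 0 := by
  obtain ⟨t, ht⟩ := hφ.2.2
  obtain ⟨c, hc⟩ := exists_chain ((sep_iff_D_ne_zero h hg x).2 hx) t
  intro h0
  have h1 := vDiff_uniformizer hφ ht
  rw [vDiff_one, hc φ, h0, mul_zero, map_zero] at h1
  exact zero_ne_one h1

/-- A derivation of the coefficients, applied to each coefficient. -/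
noncomputable def mapCoeff (d : Derivation k F F) (f : LaurentSeries F) : LaurentSeries F :=
  HahnSeries.map f (d.toLinearMap.toAddMonoidHom)

theorem mapCoeff_coeff (d : Derivation k F F) (f : LaurentSeries F) (n : ℤ) :
    (mapCoeff d f).coeff n = d (f.coeff n) := rfl

theorem mapCoeff_mul (d : Derivation k F F) (f g : LaurentSeries F) :
    mapCoeff d (f * g) = f * mapCoeff d g + g * mapCoeff d f := by
  ext n
  have hs : ∀ h : LaurentSeries F, (mapCoeff d h).support ⊆ h.support := fun h m hm hm0 => hm (by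
    rw [mapCoeff_coeff, hm0, map_zero])
  rw [mul_comm g, mapCoeff_coeff, HahnSeries.coeff_add, HahnSeries.coeff_mul, map_sum,
    HahnSeries.coeff_mul_right' g.isPWO_support (hs g), HahnSeries.coeff_mul_left' f.isPWO_support (hs f),
    ← Finset.sum_add_distrib]
  refine Finset.sum_congr rfl fun ij _ => ?_
  rw [mapCoeff_coeff, mapCoeff_coeff, Derivation.leibniz, smul_eq_mul, smul_eq_mul]
  ring

/-- An expansion over the constants can only exist at a place with separable residue field. -/
theorem isSeparable_of_expansion [FiniteDimensional k F] (hφ : LocRes.IsExpansionAt wv φ) (h : FF k K)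
    (hg : IsGeometric k K) : Algebra.IsSeparable k F := by
  obtain ⟨x, hx⟩ := exists_sep h hg
  have hgx : LocRes.D F (φ x) ≠ 0 := D_map_ne_zero hφ h hg (D_ne_zero_of_sep h hx)
  have hder : ∀ (d : Derivation k F F) (a : F), d a = 0 := by
    intro d a
    letI := φ.toRingHom.toAlgebra
    haveI : IsScalarTower k K (LaurentSeries F) := LocRes.isScalarTower_exp φ
    have hC : ∀ c : F, mapCoeff d (HahnSeries.C c) = HahnSeries.C (d c) := fun c => by
      ext n
      rw [mapCoeff_coeff, HahnSeries.C_apply, HahnSeries.C_apply, HahnSeries.coeff_single, HahnSeries.coeff_single]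
      split <;> simp
    let δ : Derivation k K (LaurentSeries F) := Derivation.mk'
      { toFun := fun y => mapCoeff d (φ y)
        map_add' := fun y z => by ext n; simp [mapCoeff_coeff]
        map_smul' := fun c y => by
          show mapCoeff d (φ (c • y)) = c • mapCoeff d (φ y)
          rw [Algebra.smul_def, map_mul, mapCoeff_mul, LocRes.map_algebraMap, hC, Derivation.map_algebraMap,
            map_zero, mul_zero, add_zero, HahnSeries.C_mul_eq_smul, algebraMap_smul] }
      fun y z => by
        show mapCoeff d (φ (y * z)) = φ y * mapCoeff d (φ z) + φ z * mapCoeff d (φ y)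
        rw [map_mul, mapCoeff_mul]
    set R := δ x / LocRes.D F (φ x)
    have hrel : ∀ y, δ y = LocRes.D F (φ y) * R := by
      intro y
      obtain ⟨c, hc⟩ := Submodule.mem_span_singleton.1
        (show KaehlerDifferential.D k K y ∈ Submodule.span K {KaehlerDifferential.D k K x} by rw [hx]; trivial)
      have h1 := congrArg δ.liftKaehlerDifferential hc.symm
      have h2 := congrArg (LocRes.dExp φ).liftKaehlerDifferential hc.symm
      rw [map_smul, Derivation.liftKaehlerDifferential_comp_D, Derivation.liftKaehlerDifferential_comp_D] at h1 h2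
      change δ y = φ c * δ x at h1
      change LocRes.D F (φ y) = φ c * LocRes.D F (φ x) at h2
      rw [h1, h2, mul_assoc, mul_div_cancel₀ _ hgx]
    obtain ⟨m, hm⟩ : ∃ m : ℕ, Valued.v R ≤ exp (m : ℤ) := by
      rcases eq_or_ne (Valued.v R) 0 with h0 | h0
      · exact ⟨0, by rw [h0]; exact zero_le⟩
      · exact ⟨(WithZero.log (Valued.v R)).toNat, by rw [← log_le_iff_le_exp h0]; omega⟩
    obtain ⟨y, hy⟩ := exists_approx hφ (HahnSeries.C a) (m + 2 : ℤ)
    have hylow := (LaurentSeries.valuation_le_iff_coeff_lt_eq_zero F).1 hy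
    have e1 : Valued.v (δ y) ≤ exp (-(1 : ℤ)) := by
      rw [hrel]
      have hd : Valued.v (LocRes.D F (φ y)) ≤ exp (-((m : ℤ) + 2 - 1)) := by
        have := val_D_le _ hy
        rwa [map_sub, LocRes.D_apply F (HahnSeries.C a), LocRes.derivative_C, sub_zero] at this
      rw [map_mul]
      refine (mul_le_mul' hd hm).trans ?_
      rw [← exp_add, exp_le_exp]; omega
    have e2 := (LaurentSeries.valuation_le_iff_coeff_lt_eq_zero F).1 e1 0 (by norm_num)
    have e3 := hylow (n := 0) (by omega)
    change d ((φ y).coeff 0) = 0 at e2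
    rw [HahnSeries.coeff_sub, sub_eq_zero] at e3
    rw [e3] at e2
    simpa using e2
  haveI : Algebra.FormallyUnramified k F := by
    rw [Algebra.formallyUnramified_iff]
    refine (Submodule.subsingleton_iff F).1 ((subsingleton_iff_bot_eq_top).1 ?_)
    rw [← KaehlerDifferential.span_range_derivation, eq_comm, Submodule.span_eq_bot]
    rintro _ ⟨a, rfl⟩
    exact (Module.forall_dual_apply_eq_zero_iff F _).1 fun l => hder (l.compDer (KaehlerDifferential.D k F)) a
  exact Algebra.FormallyUnramified.isSeparable _ _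

theorem exists_locRes_ne_zero [FiniteDimensional k F] (hφ : LocRes.IsExpansionAt wv φ) (h : FF k K)
    (hg : IsGeometric k K) {x : K} (hx : KaehlerDifferential.D k K x ≠ 0) :
    ∃ y : K, LocRes.locRes φ y x ≠ 0 := by
  haveI := isSeparable_of_expansion hφ h hg
  obtain ⟨b, hb⟩ : ∃ b : F, Algebra.trace k F b ≠ 0 := by
    by_contra hcon
    push Not at hcon
    exact Algebra.trace_ne_zero k F (LinearMap.ext hcon)
  have hgx := D_map_ne_zero hφ h hg hx
  set g := LocRes.D F (φ x)
  obtain ⟨m, hm⟩ : ∃ m : ℕ, Valued.v g ≤ exp (m : ℤ) :=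
    ⟨(WithZero.log (Valued.v g)).toNat, by
      rw [← log_le_iff_le_exp ((Valuation.ne_zero_iff _).2 hgx)]; omega⟩
  obtain ⟨y, hy⟩ := exists_approx hφ (HahnSeries.single (-1) b / g) (m : ℤ)
  refine ⟨y, ?_⟩
  have e : Valued.v (φ y * g - HahnSeries.single (-1) b) ≤ exp (-(0 : ℤ)) := by
    rw [show φ y * g - HahnSeries.single (-1) b = (φ y - HahnSeries.single (-1) b / g) * g by
      rw [sub_mul, div_mul_cancel₀ _ hgx], map_mul]
    refine (mul_le_mul' hy hm).trans ?_
    rw [← exp_add, exp_le_exp]; omega
  have e2 := (LaurentSeries.valuation_le_iff_coeff_lt_eq_zero F).1 e (-1) (by norm_num)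
  rw [HahnSeries.coeff_sub, HahnSeries.coeff_single_same, sub_eq_zero] at e2
  show Algebra.trace k F ((φ y * g).coeff (-1)) ≠ 0
  rwa [e2]

section residue

variable {K' : Type*} [Field K'] [Algebra k K'] [Algebra K K'] [IsScalarTower k K K']

/-- The map of residue fields along places one over the other. -/
noncomputable def residueMap {Q : Place k K'} {P : Place k K} {e : ℕ} (he : IsOverWith Q P e) :
    IsLocalRing.ResidueField P.O →ₐ[k] IsLocalRing.ResidueField Q.O :=
  let f : P.O →ₐ[k] IsLocalRing.ResidueField Q.O :=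
    { toRingHom := (IsLocalRing.residue Q.O).comp
        (((algebraMap K K').comp P.O.toSubring.subtype).codRestrict Q.O.toSubring fun x => by
          show Q.1 (algebraMap K K' (x : K)) ≤ 1
          rw [he]; exact pow_le_one' x.2 e)
      commutes' := fun c => congrArg (IsLocalRing.residue Q.O) (Subtype.ext
        (IsScalarTower.algebraMap_apply k K K' c).symm) }
  { toRingHom := Ideal.Quotient.lift _ f.toRingHom fun x hx => by
      rcases Nat.eq_zero_or_pos e with rfl | he0
      · exact absurd (he 0) (by simp)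
      · show IsLocalRing.residue Q.O _ = 0
        rw [residue_eq_zero_iff]
        show Q.1 (algebraMap K K' (x : K)) < 1
        rw [he]
        exact pow_lt_one₀ zero_le ((residue_eq_zero_iff P x).1 (Ideal.Quotient.eq_zero_iff_mem.2 hx)) he0.ne'
    commutes' := fun c => f.commutes c }

theorem residueMap_residue {Q : Place k K'} {P : Place k K} {e : ℕ} (he : IsOverWith Q P e) (x : P.O) (y : Q.O)
    (hxy : algebraMap K K' x = y) :
    residueMap he (IsLocalRing.residue P.O x) = IsLocalRing.residue Q.O y :=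
  congrArg (IsLocalRing.residue Q.O) (Subtype.ext hxy)

end residue

theorem transcendental_of_ord_ne_zero (hK : IsFunctionField k K) (P : Place k K) {t : K} (ht : P.ord t ≠ 0) :
    Transcendental k t := fun ha => by
  obtain ⟨c, rfl⟩ := hK.2 t ha
  exact ht (ord_const P c)

/-- A local parameter at a separable place is a separating variable. -/
theorem D_uniformizer_ne_zero (hK : IsFunctionField k K) (hg : IsGeometric k K) (P : Place k K)
    [Algebra.IsSeparable k (IsLocalRing.ResidueField P.O)] {t : K} (ht : P.1 t = exp (-1)) :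
    KaehlerDifferential.D k K t ≠ 0 := by
  have h : FF k K := hK.1
  have htr : Transcendental k t := transcendental_of_ord_ne_zero hK P (by rw [ord_eq_of_val_eq P ht]; norm_num)
  obtain h0 | ⟨p, hp, hpk⟩ := CharP.exists' k
  · haveI : CharZero k⟮t⟯ := charZero_of_injective_algebraMap (algebraMap k k⟮t⟯).injective
    haveI := FunField.FF.finiteDimensional h htr
    exact (isSeparable_iff_D_ne_zero h hg t).1 inferInstance
  haveI : CharP K p := charP_of_injective_algebraMap (algebraMap k K).injective p
  haveI : ExpChar k p := .prime hp.out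
  intro hD
  set L := kKp (k := k) (K := K) p
  have htL : t ∈ L := (mem_kKp_iff p h hg t).2 hD
  haveI : FiniteDimensional L K :=
    Module.finite_of_finrank_pos (by rw [finrank_kKp p h hg]; exact hp.out.pos)
  have hL : IsFunctionField k L := isFunctionField_intermediateField hK L ⟨t, htL, htr⟩
  set PL := under (ff hL) P
  have he := isOverWith_ramIdx (isOver_under (ff hL) P)
  have he1 : ramIdx P PL = 1 := by
    have h1 := ord_of_isOverWith he (⟨t, htL⟩ : L)
    change P.ord t = _ at h1
    rw [ord_eq_of_val_eq P ht, neg_neg] at h1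
    exact_mod_cast Int.eq_one_of_mul_eq_one_right (Int.natCast_nonneg _) h1.symm
  classical
  have huniq : ∀ Q, Q ∈ ({P} : Finset (Place k K)) ↔ IsOver Q PL := by
    intro Q
    rw [Finset.mem_singleton]
    refine ⟨fun e => e ▸ isOver_under (ff hL) P, fun ⟨e, hQ⟩ => place_ext fun x => ?_⟩
    let b : L := ⟨x ^ p, pow_mem_kKp p x⟩
    have hQx := hQ b
    have hPx := he b
    change Q.1 (x ^ p) = _ at hQx
    change P.1 (x ^ p) = _ at hPx
    rw [map_pow] at hQx hPx
    rw [← pow_le_one_iff hp.out.ne_zero, hQx, pow_le_one_iff (isOverWith_pos hQ).ne',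
      ← pow_le_one_iff (isOverWith_pos he).ne', ← hPx, pow_le_one_iff hp.out.ne_zero]
  have hdeg := sum_fibre (ff hL) PL {P} huniq
  rw [Finset.sum_singleton, he1, one_mul, finrank_kKp p h hg] at hdeg
  have hsurj : Function.Surjective (residueMap he) := by
    intro a
    obtain ⟨y, rfl⟩ := IsLocalRing.residue_surjective a
    set a := IsLocalRing.residue P.O y
    have hbmem : PL.1 (⟨(y : K) ^ p, pow_mem_kKp p _⟩ : L) ≤ 1 := by
      rw [← pow_le_one_iff (isOverWith_pos he).ne', ← he]
      show P.1 ((y : K) ^ p) ≤ 1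
      rw [map_pow]; exact pow_le_one' y.2 p
    have hap : a ^ p ∈ (residueMap he).fieldRange := ⟨IsLocalRing.residue PL.O ⟨_, hbmem⟩, by
      rw [← map_pow]; exact residueMap_residue he _ _ rfl⟩
    have hmem : a ∈ IntermediateField.adjoin k ({a ^ p} : Set (IsLocalRing.ResidueField P.O)) := by
      have := IntermediateField.adjoin_simple_eq_adjoin_pow_expChar_pow_of_isSeparable' k
        (IsLocalRing.ResidueField P.O) a p 1
      rw [pow_one] at this
      rw [← this]
      exact IntermediateField.mem_adjoin_simple_self k a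
    exact (IntermediateField.adjoin_simple_le_iff.2 hap) hmem
  have hd : P.deg ≤ PL.deg :=
    ((AlgEquiv.ofBijective (residueMap he) ⟨(residueMap he).toRingHom.injective, hsurj⟩).toLinearEquiv.finrank_eq).ge
  have := deg_pos (ff hL) PL
  have := hp.out.two_le
  nlinarith

end Groth.Agent.GeomFF26
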