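import Groth.Agent.Lib.GeomFF26.Basic
import Groth.Agent.Lib.Wronskian26.Taylor
import Groth.Agent.Lib.FunField.Ext
import Mathlib.RingTheory.LaurentSeries

/-! # Differentials read through expansions over the constants -/

namespace Groth.Agent.GeomFF26

open FunFld FunField Wronskian26 WithZero
open scoped Multiplicative

universe u v w

variable {k : Type u} {K : Type v} [Field k] [Field K] [Algebra k K]
  {F : Type w} [Field F]

theorem val_single_one_one : Valued.v (HahnSeries.single (1 : ℤ) (1 : F) : LaurentSeries F) = exp (-1 : ℤ) := by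
  simpa using LaurentSeries.valuation_single_zpow F 1

theorem val_D_le (f : LaurentSeries F) {n : ℤ} (hf : Valued.v f ≤ exp (-n)) :
    Valued.v (LocRes.D F f) ≤ exp (-(n - 1)) := by
  rw [LaurentSeries.valuation_le_iff_coeff_lt_eq_zero]
  intro m hm
  rw [LocRes.D_coeff, (LaurentSeries.valuation_le_iff_coeff_lt_eq_zero F).1 hf _ (by omega), smul_zero]

/-- Differentiating a series of order `n`. -/
theorem val_D_of_val_eq (f : LaurentSeries F) {n : ℤ} (hf : Valued.v f = exp (-n)) :
    ((n : F) ≠ 0 → Valued.v (LocRes.D F f) = exp (-(n - 1))) ∧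
    ((n : F) = 0 → Valued.v (LocRes.D F f) ≤ exp (-n)) := by
  have hlow := (LaurentSeries.valuation_le_iff_coeff_lt_eq_zero F).1 hf.le
  have hcoef : f.coeff n ≠ 0 := by
    intro h0
    have hle : Valued.v f ≤ exp (-(n + 1)) := by
      rw [LaurentSeries.valuation_le_iff_coeff_lt_eq_zero]
      intro m hm
      rcases lt_or_eq_of_le (show m ≤ n by omega) with h | rfl
      · exact hlow m h
      · exact h0
    rw [hf, exp_le_exp] at hle
    omega
  constructor
  · intro hn
    refine le_antisymm (val_D_le f hf.le) (not_lt.1 fun hlt => ?_)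
    have hle : Valued.v (LocRes.D F f) ≤ exp (-n) := by
      rw [FunField.lt_exp_iff] at hlt
      exact hlt.trans_eq (congrArg exp (by ring))
    have := (LaurentSeries.valuation_le_iff_coeff_lt_eq_zero F).1 hle (n - 1) (by omega)
    rw [LocRes.D_coeff, sub_add_cancel, zsmul_eq_mul, mul_eq_zero] at this
    exact this.elim hn hcoef
  · intro hn
    rw [LaurentSeries.valuation_le_iff_coeff_lt_eq_zero]
    intro m hm
    rw [LocRes.D_coeff]
    rcases lt_or_eq_of_le (show m + 1 ≤ n by omega) with h | h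
    · rw [hlow _ h, smul_zero]
    · rw [h, zsmul_eq_mul, hn, zero_mul]

variable [Algebra k F]

theorem D_map_mul (φ : K →ₐ[k] LaurentSeries F) (x y : K) :
    LocRes.D F (φ (x * y)) = φ x * LocRes.D F (φ y) + φ y * LocRes.D F (φ x) := by
  rw [map_mul, Derivation.leibniz, smul_eq_mul, smul_eq_mul]

theorem D_map_const (φ : K →ₐ[k] LaurentSeries F) (c : k) : LocRes.D F (φ (algebraMap k K c)) = 0 := by
  rw [LocRes.map_algebraMap, LocRes.D_apply, LocRes.derivative_C]

theorem D_ne_zero_of_D_map (φ : K →ₐ[k] LaurentSeries F) {x : K} (hx : LocRes.D F (φ x) ≠ 0) :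
    KaehlerDifferential.D k K x ≠ 0 := by
  intro h0
  letI := φ.toRingHom.toAlgebra
  haveI : IsScalarTower k K (LaurentSeries F) := LocRes.isScalarTower_exp φ
  have := congrArg (LocRes.dExp φ).liftKaehlerDifferential h0
  rw [Derivation.liftKaehlerDifferential_comp_D, map_zero] at this
  exact hx this

/-- The chain rule read through any homomorphism to Laurent series. -/
theorem exists_chain {x : K} (hx : Wronskian26.Sep k x) (z : K) :
    ∃ c : K, ∀ {F : Type w} [Field F] [Algebra k F] (φ : K →ₐ[k] LaurentSeries F),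
      LocRes.D F (φ z) = φ c * LocRes.D F (φ x) := by
  obtain ⟨c, hc⟩ := Submodule.mem_span_singleton.1
    (show KaehlerDifferential.D k K z ∈ Submodule.span K {KaehlerDifferential.D k K x} by rw [hx]; trivial)
  refine ⟨c, fun {F} _ _ φ => ?_⟩
  letI := φ.toRingHom.toAlgebra
  haveI : IsScalarTower k K (LaurentSeries F) := LocRes.isScalarTower_exp φ
  have := congrArg (LocRes.dExp φ).liftKaehlerDifferential hc.symm
  rw [map_smul, Derivation.liftKaehlerDifferential_comp_D, Derivation.liftKaehlerDifferential_comp_D] at this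
  exact this

theorem vDiff_one (φ : K →ₐ[k] LaurentSeries F) (x : K) :
    LocRes.vDiff φ 1 x = Valued.v (LocRes.D F (φ x)) := by
  rw [LocRes.vDiff, map_one, one_mul]

theorem D_ne_zero_of_vDiff {φ : K →ₐ[k] LaurentSeries F} {x : K} (hx : LocRes.vDiff φ 1 x ≠ 0) :
    LocRes.D F (φ x) ≠ 0 := fun h0 => hx (by rw [vDiff_one, h0, map_zero])

theorem vDiff_uniformizer {w : Valuation K ℤᵐ⁰} {φ : K →ₐ[k] LaurentSeries F}
    (hφ : LocRes.IsExpansionAt w φ) {t : K} (ht : w t = exp (-1)) : LocRes.vDiff φ 1 t = 1 := by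
  rw [vDiff_one, (val_D_of_val_eq (φ t) (n := 1) ((hφ.1 t).trans ht)).1 (by simp)]
  simp

section hasse

/-- Power series inside Laurent series, coefficientwise in a second variable. -/
noncomputable def shiftLaurent : LaurentSeries F →+* PowerSeries (LaurentSeries F) :=
  IsLocalization.lift (M := Submonoid.powers (PowerSeries.X : PowerSeries F)) (S := LaurentSeries F)
    (g := (PowerSeries.map (HahnSeries.ofPowerSeries ℤ F)).comp (shift (k := F)).toRingHom) (by
      rintro ⟨_, m, rfl⟩
      rw [map_pow]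
      refine IsUnit.pow _ (PowerSeries.isUnit_iff_constantCoeff.2 ?_)
      rw [RingHom.comp_apply, ← PowerSeries.coeff_zero_eq_constantCoeff_apply, PowerSeries.coeff_map,
        AlgHom.toRingHom_eq_coe, RingHom.coe_coe, coeff_shift, hs_zero]
      exact isUnit_iff_ne_zero.2 ((map_ne_zero_iff _ HahnSeries.ofPowerSeries_injective).2 PowerSeries.X_ne_zero))

theorem coeff_shiftLaurent_coe (p : PowerSeries F) (j : ℕ) :
    PowerSeries.coeff j (shiftLaurent (p : LaurentSeries F)) = ((hs j p : PowerSeries F) : LaurentSeries F) := by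
  rw [show (p : LaurentSeries F) = algebraMap (PowerSeries F) (LaurentSeries F) p from rfl, shiftLaurent,
    IsLocalization.lift_eq, RingHom.comp_apply, PowerSeries.coeff_map, AlgHom.toRingHom_eq_coe, RingHom.coe_coe,
    coeff_shift]

theorem constantCoeff_shiftLaurent (f : LaurentSeries F) : PowerSeries.constantCoeff (shiftLaurent f) = f := by
  have : (PowerSeries.constantCoeff).comp (shiftLaurent (F := F)) = RingHom.id _ := by
    refine IsLocalization.ringHom_ext (Submonoid.powers (PowerSeries.X : PowerSeries F)) (RingHom.ext fun p => ?_)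
    rw [RingHom.comp_apply, RingHom.comp_apply, ← PowerSeries.coeff_zero_eq_constantCoeff_apply,
      show algebraMap (PowerSeries F) (LaurentSeries F) p = (p : LaurentSeries F) from rfl, coeff_shiftLaurent_coe,
      hs_zero]
    rfl
  exact RingHom.congr_fun this f

theorem hasseDeriv_coe (p : PowerSeries F) (j : ℕ) :
    LaurentSeries.hasseDeriv F j (p : LaurentSeries F) = ((hs j p : PowerSeries F) : LaurentSeries F) := by
  ext m
  rw [LaurentSeries.hasseDeriv_coeff, PowerSeries.coeff_coe, PowerSeries.coeff_coe]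
  rcases le_or_gt 0 m with hm | hm
  · lift m to ℕ using hm
    rw [if_neg (by omega), if_neg (by omega), coeff_hs, Int.natAbs_natCast,
      show ((m : ℤ) + j).natAbs = m + j by omega, show ((m : ℤ) + j) = ((m + j : ℕ) : ℤ) by push_cast; ring,
      Ring.choose_natCast, natCast_zsmul, nsmul_eq_mul]
  · rw [if_pos hm]
    split_ifs with h
    · rw [smul_zero]
    · lift (m + j) to ℕ using (by omega) with a ha
      rw [Ring.choose_natCast, Nat.choose_eq_zero_of_lt (by omega), Nat.cast_zero, zero_smul]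

/-- Hasse derivatives commute with expansions in a local parameter. -/
theorem expansion_hasseD (φ : K →ₐ[k] LaurentSeries F) {t : K} (ht : φ t = HahnSeries.single 1 1)
    (hsep : Wronskian26.Sep k t) {H : K →ₐ[k] PowerSeries K} (hH : LocRes.IsHasseFamily t H) {x : K}
    (hx : Valued.v (φ x) ≤ 1) (n : ℕ) :
    φ (LocRes.hasseD H n x) = LaurentSeries.hasseDeriv F n (φ x) := by
  have key : (PowerSeries.map φ.toRingHom).comp H.toRingHom = shiftLaurent.comp φ.toRingHom := by
    refine hsep.hom_ext φ _ _ (fun y => ?_) (fun y => ?_) (fun c => ?_) ?_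
    · rw [RingHom.comp_apply, ← PowerSeries.coeff_zero_eq_constantCoeff_apply, PowerSeries.coeff_map,
        PowerSeries.coeff_zero_eq_constantCoeff_apply]
      exact congrArg φ (hH.2 y)
    · rw [RingHom.comp_apply]
      exact constantCoeff_shiftLaurent _
    · refine PowerSeries.ext fun j => ?_
      simp only [RingHom.comp_apply, AlgHom.toRingHom_eq_coe, RingHom.coe_coe]
      rw [AlgHom.commutes H, PowerSeries.algebraMap_apply, PowerSeries.coeff_map, PowerSeries.coeff_C,
        LocRes.map_algebraMap φ, ← HahnSeries.ofPowerSeries_C, coeff_shiftLaurent_coe, hs_C]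
      split_ifs with hj
      · rw [RingHom.coe_coe, LocRes.map_algebraMap, ← HahnSeries.ofPowerSeries_C]
      · simp
    · refine PowerSeries.ext fun j => ?_
      simp only [RingHom.comp_apply, AlgHom.toRingHom_eq_coe, RingHom.coe_coe]
      rw [hH.1, PowerSeries.coeff_map, map_add, PowerSeries.coeff_C, PowerSeries.coeff_X, ht, ← PowerSeries.coe_X,
        coeff_shiftLaurent_coe, hs_X]
      rcases j with _ | _ | j <;> simp [ht, PowerSeries.coe_X]
  obtain ⟨p, hp⟩ := (LaurentSeries.val_le_one_iff_eq_coe F _).1 hx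
  have h := congrArg (PowerSeries.coeff n) (RingHom.congr_fun key x)
  simp only [RingHom.comp_apply, AlgHom.toRingHom_eq_coe, RingHom.coe_coe, PowerSeries.coeff_map] at h
  rw [LocRes.hasseD_apply, h, ← hp, coeff_shiftLaurent_coe, hasseDeriv_coe]

end hasse

theorem diffExp_independent {K' : Type v} [Field K'] [Algebra k K'] [Algebra K K'] [IsScalarTower k K K']
    {F' : Type w} [Field F'] [Algebra k F'] (h : FF k K) (hg : IsGeometric k K)
    {P : Place k K} {Q : Place k K'} {e : ℕ} (he : IsOverWith Q P e)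
    {φ : K →ₐ[k] LaurentSeries F} (hφ : LocRes.IsExpansionAt P.1 φ)
    {ψ : K' →ₐ[k] LaurentSeries F'} (hψ : LocRes.IsExpansionAt Q.1 ψ)
    {x : K} (hx : LocRes.vDiff φ 1 x ≠ 0) {x' : K} (hx2 : LocRes.vDiff φ 1 x' ≠ 0) :
    LocRes.vDiff ψ 1 (algebraMap K K' x) ≠ 0 →
      LocRes.vDiff ψ 1 (algebraMap K K' x') ≠ 0 ∧ LocRes.diffExp φ ψ e x = LocRes.diffExp φ ψ e x' := by
  intro hx'
  have hsep := (sep_iff_D_ne_zero h hg x).2 (D_ne_zero_of_D_map φ (D_ne_zero_of_vDiff hx))
  obtain ⟨c, hc⟩ := exists_chain hsep x'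
  have e1 : LocRes.vDiff φ 1 x' = P.1 c * LocRes.vDiff φ 1 x := by
    rw [vDiff_one, vDiff_one, hc φ, map_mul, hφ.1]
  have e2 : LocRes.vDiff ψ 1 (algebraMap K K' x') = P.1 c ^ e * LocRes.vDiff ψ 1 (algebraMap K K' x) := by
    rw [vDiff_one, vDiff_one, ← he c]
    have := hc (ψ.comp (IsScalarTower.toAlgHom k K K'))
    simp only [AlgHom.comp_apply, IsScalarTower.toAlgHom_apply] at this
    rw [this, map_mul, hψ.1]
  have hc0 : P.1 c ≠ 0 := fun h0 => hx2 (by rw [e1, h0, zero_mul])
  refine ⟨by rw [e2]; exact mul_ne_zero (pow_ne_zero _ hc0) hx', ?_⟩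
  simp only [LocRes.diffExp, LocRes.ordDiff, e1, e2]
  rw [log_mul hc0 hx, log_mul (pow_ne_zero _ hc0) hx', log_pow, nsmul_eq_mul]
  ring

theorem diffExp_bounds {K' : Type v} [Field K'] [Algebra k K'] [Algebra K K'] [IsScalarTower k K K']
    {F' : Type w} [Field F'] [Algebra k F'] (h : FF k K) (hg : IsGeometric k K)
    {P : Place k K} {Q : Place k K'} {e : ℕ} (he : IsOverWith Q P e)
    {φ : K →ₐ[k] LaurentSeries F} (hφ : LocRes.IsExpansionAt P.1 φ)
    {ψ : K' →ₐ[k] LaurentSeries F'} (hψ : LocRes.IsExpansionAt Q.1 ψ)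
    {x : K} (hx : LocRes.vDiff φ 1 x ≠ 0) (hx' : LocRes.vDiff ψ 1 (algebraMap K K' x) ≠ 0) :
    ((e : F') ≠ 0 → LocRes.diffExp φ ψ e x = (e : ℤ) - 1) ∧
    ((e : F') = 0 → (e : ℤ) ≤ LocRes.diffExp φ ψ e x) := by
  obtain ⟨t, ht⟩ := hφ.2.2
  have h1 := vDiff_uniformizer hφ ht
  obtain ⟨hne, hind⟩ := diffExp_independent h hg he hφ hψ hx (x' := t) (by rw [h1]; exact one_ne_zero) hx'
  have hv : Valued.v (ψ (algebraMap K K' t)) = exp (-(e : ℤ)) := by
    rw [hψ.1, he t, ht, ← exp_nsmul]; simp
  have hD := val_D_of_val_eq (ψ (algebraMap K K' t)) hv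
  rw [Int.cast_natCast] at hD
  rw [hind, LocRes.diffExp, LocRes.ordDiff, LocRes.ordDiff, h1, log_one, neg_zero, mul_zero, sub_zero, vDiff_one]
  refine ⟨fun hne0 => by rw [hD.1 hne0, log_exp]; ring, fun h0 => ?_⟩
  rw [vDiff_one] at hne
  have := log_le_log hne exp_ne_zero |>.2 (hD.2 h0)
  rw [log_exp] at this
  omega

end Groth.Agent.GeomFF26
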