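import Groth.Agent.Lib.Wronskian26.Separating
import Mathlib.FieldTheory.PurelyInseparable.Basic
import Mathlib.FieldTheory.KummerPolynomial
import Mathlib.FieldTheory.IsAlgClosed.AlgebraicClosure
import Mathlib.LinearAlgebra.Dual.Lemmas

/-! # Geometric function fields: separating variables and differentials -/

namespace Groth.Agent.GeomFF26

open FunFld FunField Wronskian26 IntermediateField IntermediateField.algebraAdjoinAdjoin
open scoped TensorProduct

universe u v

variable {k : Type u} {K : Type v} [Field k] [Field K] [Algebra k K]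

/-- In a geometric function field, `p`-th powers of independent elements are independent. -/
theorem linearIndepOn_pow (hg : IsGeometric k K) (p : ℕ) [Fact p.Prime] [CharP k p] (s : Finset K)
    (hs : LinearIndepOn k id (s : Set K)) : LinearIndepOn k (· ^ p) (s : Set K) := by
  classical
  show LinearIndependent k fun x : (s : Set K) => (x : K) ^ p
  rw [Fintype.linearIndependent_iff]
  intro a ha
  let Ω := AlgebraicClosure k
  choose b hb using fun i => IsAlgClosed.exists_pow_nat_eq (algebraMap k Ω (a i)) (Fact.out : p.Prime).pos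
  let k' := IntermediateField.adjoin k (Set.range b)
  haveI : FiniteDimensional k k' :=
    IntermediateField.finiteDimensional_adjoin fun x _ => Algebra.IsIntegral.isIntegral x
  letI : Field (k' ⊗[k] K) := (hg k' inferInstance).toField
  haveI : CharP (k' ⊗[k] K) p := charP_of_injective_algebraMap (algebraMap k (k' ⊗[k] K)).injective p
  let b' : ↥(s : Set K) → k' := fun i => ⟨b i, IntermediateField.subset_adjoin _ _ ⟨i, rfl⟩⟩
  let z : k' ⊗[k] K := ∑ i, b' i ⊗ₜ[k] (i : K)
  have hz : z ^ p = 0 := by
    rw [sum_pow_char p]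
    simp only [Algebra.TensorProduct.tmul_pow]
    calc ∑ i, (b' i ^ p) ⊗ₜ[k] ((i : K) ^ p) = ∑ i, (1 : k') ⊗ₜ[k] (a i • (i : K) ^ p) := by
          refine Finset.sum_congr rfl fun i _ => ?_
          rw [show b' i ^ p = a i • (1 : k') from Subtype.ext (by simp [b', hb, Algebra.smul_def]),
            TensorProduct.smul_tmul]
      _ = 0 := by rw [← TensorProduct.tmul_sum, ha, TensorProduct.tmul_zero]
  have hz0 : z = 0 := eq_zero_of_pow_eq_zero hz
  intro i
  obtain ⟨L, hL⟩ := (Finsupp.linearCombination k (fun x : (s : Set K) => (x : K))).exists_leftInverse_of_injective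
    (LinearMap.ker_eq_bot.2 hs)
  have hLx : ∀ j : (s : Set K), L (j : K) = Finsupp.single j 1 := fun j => by
    simpa using LinearMap.congr_fun hL (Finsupp.single j 1)
  have h1 := congrArg ((TensorProduct.rid k k').toLinearMap ∘ₗ ((Finsupp.lapply i).comp L).lTensor k') hz0
  simp only [z, map_sum, map_zero, LinearMap.comp_apply, LinearMap.lTensor_tmul, LinearEquiv.coe_coe,
    TensorProduct.rid_tmul, hLx, Finsupp.lapply_apply, Finsupp.single_apply, ite_smul, one_smul, zero_smul,
    Finset.sum_ite_eq', Finset.mem_univ, if_true] at h1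
  have h2 := congrArg (fun w : k' => (w : Ω) ^ p) h1
  simp only [b', hb, IntermediateField.coe_zero, zero_pow (Fact.out : p.Prime).ne_zero] at h2
  exact (algebraMap k Ω).injective (h2.trans (map_zero _).symm)

/-- A geometric function field has a separating variable. -/
theorem exists_separating (h : FF k K) (hg : IsGeometric k K) :
    ∃ x : K, Transcendental k x ∧ Algebra.IsSeparable k⟮x⟯ K := by
  haveI := essFiniteType h
  obtain ⟨s, hs, hsep⟩ : ∃ s : Finset K, IsTranscendenceBasis k ((↑) : s → K) ∧
      Algebra.IsSeparable (IntermediateField.adjoin k (s : Set K)) K := by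
    obtain _ | ⟨p, hp, hpk⟩ := CharP.exists' k
    · exact exists_isTranscendenceBasis_and_isSeparable_of_perfectField k K
    haveI : ExpChar k p := .prime hp.out
    exact exists_isTranscendenceBasis_and_isSeparable_of_linearIndepOn_pow_of_essFiniteType p hp.out
      fun s hs => linearIndepOn_pow hg p s hs
  obtain ⟨x, hx, hfin⟩ := h
  have htr : Algebra.trdeg k K = 1 := by
    refine le_antisymm ?_ ?_
    · haveI : Algebra.IsAlgebraic (Algebra.adjoin k ({x} : Set K)) K := by
        haveI : Algebra.IsAlgebraic k⟮x⟯ K := Algebra.IsAlgebraic.of_finite _ _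
        exact (IsFractionRing.comap_isAlgebraic_iff (A := Algebra.adjoin k ({x} : Set K)) (K := k⟮x⟯) (C := K)).2 this
      simpa using Algebra.IsAlgebraic.trdeg_le_cardinalMk (R := k) (A := K) (s := ({x} : Set K))
    · have : AlgebraicIndependent k (fun _ : PUnit.{1} => x) := by
        rw [algebraicIndependent_unique_type_iff]; exact hx
      simpa using this.lift_cardinalMk_le_trdeg
  have hcard : s.card = 1 := by
    have := hs.cardinalMk_eq_trdeg
    rw [htr] at this
    simpa using this
  obtain ⟨y, rfl⟩ := Finset.card_eq_one.1 hcard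
  refine ⟨y, ?_, by rwa [Finset.coe_singleton] at hsep⟩
  exact hs.1.transcendental ⟨y, Finset.mem_singleton_self y⟩

theorem exists_sep (h : FF k K) (hg : IsGeometric k K) : ∃ x : K, Wronskian26.Sep k x := by
  obtain ⟨x, -, hsep⟩ := exists_separating h hg
  exact ⟨x, sep_of_isSeparable x⟩

theorem D_ne_zero_of_sep (h : FF k K) {x : K} (hx : Wronskian26.Sep k x) : KaehlerDifferential.D k K x ≠ 0 := by
  intro h0
  obtain ⟨H, hH⟩ := exists_hasse h hx
  let D : Derivation k K K := Derivation.mk'
    { toFun := fun y => PowerSeries.coeff 1 (H y)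
      map_add' := fun a b => by simp
      map_smul' := fun c a => by
        rw [Algebra.smul_def, hasse_leibniz H hH.2, hasse_const H c one_ne_zero, mul_zero, add_zero, RingHom.id_apply,
          Algebra.smul_def] }
    fun a b => hasse_leibniz H hH.2 a b
  have := congrArg D.liftKaehlerDifferential h0
  rw [Derivation.liftKaehlerDifferential_comp_D, map_zero] at this
  exact one_ne_zero ((show D x = 1 by simp [D, hH.1]).symm.trans this)

theorem finrank_kaehler (h : FF k K) (hg : IsGeometric k K) : Module.finrank K (Ω[K⁄k]) = 1 := by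
  obtain ⟨x, hx⟩ := exists_sep h hg
  rw [← finrank_top, ← hx, finrank_span_singleton (D_ne_zero_of_sep h hx)]

theorem sep_iff_D_ne_zero (h : FF k K) (hg : IsGeometric k K) (u : K) :
    Wronskian26.Sep k u ↔ KaehlerDifferential.D k K u ≠ 0 := by
  refine ⟨D_ne_zero_of_sep h, fun hu => ?_⟩
  obtain ⟨x, hx⟩ := exists_sep h hg
  obtain ⟨c, hc⟩ := Submodule.mem_span_singleton.1
    (show KaehlerDifferential.D k K u ∈ Submodule.span K {KaehlerDifferential.D k K x} by rw [hx]; trivial)
  have hc0 : c ≠ 0 := fun e => hu (by rw [← hc, e, zero_smul])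
  rw [Wronskian26.Sep, eq_top_iff, ← hx, Submodule.span_le, Set.singleton_subset_iff]
  exact Submodule.mem_span_singleton.2 ⟨c⁻¹, by rw [← hc, smul_smul, inv_mul_cancel₀ hc0, one_smul]⟩

theorem isSeparable_of_sep (h : FF k K) {u : K} (hu : Wronskian26.Sep k u) : Algebra.IsSeparable k⟮u⟯ K := by
  haveI := essFiniteType h
  haveI : Algebra.EssFiniteType k⟮u⟯ K := Algebra.EssFiniteType.of_comp k _ K
  haveI : Algebra.FormallyUnramified k⟮u⟯ K := by
    rw [Algebra.formallyUnramified_iff]
    refine (Submodule.subsingleton_iff K).1 ((subsingleton_iff_bot_eq_top).1 ?_)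
    rw [← KaehlerDifferential.span_range_derivation, eq_comm, Submodule.span_eq_bot]
    rintro _ ⟨y, rfl⟩
    refine hu.der_eq_zero ((KaehlerDifferential.D k⟮u⟯ K).restrictScalars k) ?_ y
    exact Derivation.map_algebraMap (KaehlerDifferential.D k⟮u⟯ K) (AdjoinSimple.gen k u)
  exact Algebra.FormallyUnramified.isSeparable _ _

theorem isSeparable_iff_D_ne_zero (h : FF k K) (hg : IsGeometric k K) (u : K) :
    Algebra.IsSeparable k⟮u⟯ K ↔ KaehlerDifferential.D k K u ≠ 0 := by
  rw [← sep_iff_D_ne_zero h hg]
  exact ⟨fun hh => sep_of_isSeparable u, isSeparable_of_sep h⟩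

/-- The constants of a derivation form an intermediate field. -/
def constants {M : Type*} [AddCommGroup M] [Module k M] [Module K M] (d : Derivation k K M) :
    IntermediateField k K where
  carrier := {y | d y = 0}
  add_mem' {a b} (ha : d a = 0) (hb : d b = 0) := show d (a + b) = 0 by rw [map_add, ha, hb, add_zero]
  mul_mem' {a b} (ha : d a = 0) (hb : d b = 0) :=
    show d (a * b) = 0 by rw [Derivation.leibniz, ha, hb, smul_zero, smul_zero, add_zero]
  algebraMap_mem' c := d.map_algebraMap c
  inv_mem' a (ha : d a = 0) := show d a⁻¹ = 0 by rw [Derivation.leibniz_inv, ha, smul_zero]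

section CharP

variable (p : ℕ) [Fact p.Prime] [CharP K p]

/-- `k K^p`. -/
def kKp : IntermediateField k K := IntermediateField.adjoin k (Set.range fun y : K => y ^ p)

theorem pow_mem_kKp (y : K) : y ^ p ∈ kKp (k := k) p := IntermediateField.subset_adjoin _ _ ⟨y, rfl⟩

theorem D_eq_zero_of_mem {y : K} (hy : y ∈ kKp (k := k) p) : KaehlerDifferential.D k K y = 0 := by
  refine (IntermediateField.adjoin_le_iff.2 ?_ : kKp (k := k) p ≤ constants (KaehlerDifferential.D k K)) hy
  rintro _ ⟨a, rfl⟩
  show KaehlerDifferential.D k K (a ^ p) = 0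
  rw [Derivation.leibniz_pow, ← Nat.cast_smul_eq_nsmul K, CharP.cast_eq_zero, zero_smul]

theorem isPurelyInseparable_kKp : IsPurelyInseparable (kKp (k := k) (K := K) p) K :=
  (isPurelyInseparable_iff_pow_mem _ p).2 fun y => ⟨1, ⟨_, pow_mem_kKp p y⟩, by simp⟩

theorem adjoin_sep_eq_top (h : FF k K) {x : K} (hx : Wronskian26.Sep k x) :
    IntermediateField.adjoin (kKp (k := k) (K := K) p) ({x} : Set K) = ⊤ := by
  set F := kKp (k := k) (K := K) p
  haveI := isSeparable_of_sep h hx
  haveI := isPurelyInseparable_kKp (k := k) (K := K) p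
  have hle : k⟮x⟯ ≤ (IntermediateField.adjoin F ({x} : Set K)).restrictScalars k :=
    adjoin_simple_le_iff.2 (mem_adjoin_simple_self F x)
  letI : Algebra k⟮x⟯ (IntermediateField.adjoin F ({x} : Set K)) :=
    ((IntermediateField.inclusion hle).toRingHom).toAlgebra
  haveI : IsScalarTower k⟮x⟯ (IntermediateField.adjoin F ({x} : Set K)) K := IsScalarTower.of_algebraMap_eq fun _ => rfl
  haveI : Algebra.IsSeparable (IntermediateField.adjoin F ({x} : Set K)) K :=
    Algebra.isSeparable_tower_top_of_isSeparable k⟮x⟯ _ K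
  haveI : IsPurelyInseparable (IntermediateField.adjoin F ({x} : Set K)) K :=
    IsPurelyInseparable.tower_top F _ K
  rw [eq_top_iff]
  intro y _
  obtain ⟨z, rfl⟩ := IsPurelyInseparable.surjective_algebraMap_of_isSeparable (IntermediateField.adjoin F ({x} : Set K)) K y
  exact z.2

theorem finrank_kKp (h : FF k K) (hg : IsGeometric k K) :
    Module.finrank (kKp (k := k) (K := K) p) K = p := by
  set F := kKp (k := k) (K := K) p
  obtain ⟨x, hx⟩ := exists_sep h hg
  have hxF : x ∉ F := fun hm => D_ne_zero_of_sep h hx (D_eq_zero_of_mem p hm)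
  have hp : p.Prime := Fact.out
  have hirr : Irreducible (Polynomial.X ^ p - Polynomial.C (⟨x ^ p, pow_mem_kKp p x⟩ : F)) :=
    X_pow_sub_C_irreducible_of_prime hp fun b hb => hxF (by
      have : (b : K) ^ p = x ^ p := congrArg Subtype.val hb
      rw [← frobenius_def, ← frobenius_def] at this
      rw [← (frobenius K p).injective this]
      exact b.2)
  have hmin := minpoly.eq_of_irreducible_of_monic hirr (x := x) (by
      rw [map_sub, map_pow, Polynomial.aeval_X, Polynomial.aeval_C]
      show x ^ p - x ^ p = 0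
      exact sub_self _)
    (Polynomial.monic_X_pow_sub_C _ hp.ne_zero)
  have hint : IsIntegral F x := ⟨Polynomial.X ^ p - Polynomial.C (⟨x ^ p, pow_mem_kKp p x⟩ : F),
    Polynomial.monic_X_pow_sub_C _ hp.ne_zero, by
    rw [← Polynomial.aeval_def, map_sub, map_pow, Polynomial.aeval_X, Polynomial.aeval_C]
    show x ^ p - x ^ p = 0
    exact sub_self _⟩
  have := IntermediateField.adjoin.finrank hint
  rw [adjoin_sep_eq_top p h hx, IntermediateField.finrank_top', ← hmin, Polynomial.natDegree_X_pow_sub_C] at this
  exact this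

theorem mem_kKp_iff (h : FF k K) (hg : IsGeometric k K) (z : K) :
    z ∈ kKp (k := k) p ↔ KaehlerDifferential.D k K z = 0 := by
  refine ⟨D_eq_zero_of_mem p, fun hz => ?_⟩
  set F := kKp (k := k) (K := K) p
  haveI : FiniteDimensional F K :=
    Module.finite_of_finrank_pos (by rw [finrank_kKp p h hg]; exact (Fact.out : p.Prime).pos)
  obtain ⟨x, hx⟩ := exists_sep h hg
  have hdvd : Module.finrank F (IntermediateField.adjoin F ({z} : Set K)) ∣ p := by
    have := Module.finrank_mul_finrank F (IntermediateField.adjoin F ({z} : Set K)) K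
    rw [finrank_kKp p h hg] at this
    exact ⟨_, this.symm⟩
  rcases (Nat.dvd_prime (Fact.out : p.Prime)).1 hdvd with h1 | h1
  · rw [IntermediateField.finrank_eq_one_iff, adjoin_simple_eq_bot_iff, IntermediateField.mem_bot] at h1
    obtain ⟨w, rfl⟩ := h1
    exact w.2
  · exfalso
    have htop : IntermediateField.adjoin F ({z} : Set K) = ⊤ :=
      IntermediateField.eq_of_le_of_finrank_eq le_top
        (by rw [h1, IntermediateField.finrank_top', finrank_kKp p h hg])
    have hsub : ((IntermediateField.adjoin F ({z} : Set K)).restrictScalars k) ≤ constants (KaehlerDifferential.D k K) := by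
      rw [IntermediateField.restrictScalars_adjoin, IntermediateField.adjoin_le_iff, Set.union_subset_iff]
      exact ⟨fun w hw => D_eq_zero_of_mem p hw, Set.singleton_subset_iff.2 hz⟩
    exact D_ne_zero_of_sep h hx (hsub (show x ∈ IntermediateField.adjoin F ({z} : Set K) by rw [htop]; trivial))

/-- `k K^p` is the only intermediate field with purely inseparable quotient of degree `p`. -/
theorem eq_kKp_iff (h : FF k K) (hg : IsGeometric k K) (K₀ : IntermediateField k K) :
    (IsPurelyInseparable K₀ K ∧ Module.finrank K₀ K = p) ↔ K₀ = kKp p := by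
  refine ⟨fun ⟨hpi, hr⟩ => ?_, fun e => e ▸ ⟨isPurelyInseparable_kKp p, finrank_kKp p h hg⟩⟩
  haveI : FiniteDimensional K₀ K :=
    Module.finite_of_finrank_pos (by rw [hr]; exact (Fact.out : p.Prime).pos)
  have hle : kKp (k := k) p ≤ K₀ := by
    refine IntermediateField.adjoin_le_iff.2 ?_
    rintro _ ⟨y, rfl⟩
    have hdeg : (minpoly K₀ y).natDegree ∣ p := hr ▸ minpoly.degree_dvd (Algebra.IsIntegral.isIntegral y)
    obtain ⟨m, c, hc⟩ := IsPurelyInseparable.minpoly_eq_X_pow_sub_C K₀ p y
    have hdeg' : (minpoly K₀ y).natDegree = p ^ m := by rw [hc, Polynomial.natDegree_X_pow_sub_C]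
    have hy := minpoly.aeval K₀ y
    rw [hc, map_sub, map_pow, Polynomial.aeval_X, Polynomial.aeval_C, sub_eq_zero] at hy
    have hm : m ≤ 1 := by
      have := Nat.le_of_dvd (Fact.out : p.Prime).pos (hdeg' ▸ hdeg)
      by_contra hgt
      have := Nat.pow_lt_pow_right (Fact.out : p.Prime).one_lt (show 1 < m by omega)
      rw [pow_one] at this
      omega
    show y ^ p ∈ K₀
    interval_cases m
    · rw [pow_zero, pow_one] at hy
      exact hy ▸ pow_mem c.2 p
    · rw [pow_one] at hy
      exact hy ▸ c.2
  haveI : FiniteDimensional (kKp (k := k) (K := K) p) K :=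
    Module.finite_of_finrank_pos (by rw [finrank_kKp p h hg]; exact (Fact.out : p.Prime).pos)
  exact (IntermediateField.eq_of_le_of_finrank_eq' hle (by rw [hr, finrank_kKp p h hg])).symm

end CharP

end Groth.Agent.GeomFF26
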