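import Groth.Agent.Lib.GeomFF26.SepPlace
import Mathlib.RingTheory.Discriminant
import Mathlib.FieldTheory.PrimitiveElement

/-! # Almost all places are unramified with separable residue extension -/

namespace Groth.Agent.GeomFF26

open FunFld FunField WithZero Polynomial
open scoped Multiplicative

variable {k K K' : Type*} [Field k] [Field K] [Field K'] [Algebra k K] [Algebra K K'] [Algebra k K']
  [IsScalarTower k K K']

theorem finite_val_ne_one {L : Type*} [Field L] [Algebra k L] (h : FF k L) {x : L} (hx : x ≠ 0) :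
    {P : Place k L | P.1 x ≠ 1}.Finite :=
  (finite_support_ord h x).subset fun P hP => by
    simp only [Function.mem_support]
    intro h0
    exact hP (by rw [val_eq_exp_neg_ord P hx, h0, neg_zero, exp_zero])

theorem finite_one_lt_val {L : Type*} [Field L] [Algebra k L] (h : FF k L) (x : L) :
    {P : Place k L | ¬ P.1 x ≤ 1}.Finite :=
  (finite_support_ord h x).subset fun P hP => by
    simp only [Function.mem_support]
    intro h0
    exact hP ((ord_nonneg_iff P x).1 h0.ge)

variable [FiniteDimensional K K'] [Algebra.IsSeparable K K']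

set_option maxHeartbeats 400000 in
/-- The conditions on a place for the generator `y` to work. -/
theorem unramified_aux (h : FF k K) (B : PowerBasis K K') {Q : Place k K'} {P : Place k K} {e : ℕ}
    (he : IsOverWith Q P e) (hcoef : ∀ i, P.1 ((minpoly K B.gen).coeff i) ≤ 1)
    (hdisc : P.1 (Algebra.discr K B.basis) = 1) (hder : Q.1 (aeval B.gen (minpoly K B.gen).derivative) = 1) :
    e = 1 ∧ (letI := (residueMap he).toRingHom.toAlgebra;
      Algebra.IsSeparable (IsLocalRing.ResidueField P.O) (IsLocalRing.ResidueField Q.O) ∧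
      ∃ hy : B.gen ∈ Q.O, ∀ a, a ∈ IntermediateField.adjoin (IsLocalRing.ResidueField P.O)
        ({IsLocalRing.residue Q.O ⟨B.gen, hy⟩} : Set (IsLocalRing.ResidueField Q.O))) := by
  classical
  have hover : IsOver Q P := ⟨e, he⟩
  have hepos := isOverWith_pos he
  set y := B.gen
  set f := minpoly K y
  set d := Algebra.discr K B.basis
  letI : Algebra P.O K' := ((algebraMap K K').comp P.O.toSubring.subtype).toAlgebra
  haveI : IsScalarTower P.O K K' := IsScalarTower.of_algebraMap_eq fun _ => rfl
  letI := (residueMap he).toRingHom.toAlgebra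
  obtain ⟨fO, hfO, -, hfm⟩ := Polynomial.lifts_and_degree_eq_and_monic (p := f)
    ((Polynomial.lifts_iff_coeff_lifts (f := algebraMap P.O K) f).2 fun i => ⟨⟨f.coeff i, hcoef i⟩, rfl⟩)
    (minpoly.monic (Algebra.IsIntegral.isIntegral y))
  have hfy : aeval y fO = 0 := by
    rw [← aeval_map_algebraMap K, hfO]; exact minpoly.aeval K y
  have hint : IsIntegral P.O y := ⟨fO, hfm, by rw [← aeval_def]; exact hfy⟩
  have hy : Q.1 y ≤ 1 := (isIntegral_iff h P y).1 hint Q hover
  have hle : ∀ x : P.O, Q.1 (algebraMap K K' (x : K)) ≤ 1 := fun x => by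
    rw [he]; exact pow_le_one' x.2 e
  let ψ : P.O →+* Q.O := ((algebraMap K K').comp P.O.toSubring.subtype).codRestrict Q.O.toSubring hle
  let yO : Q.O := ⟨y, hy⟩
  set ybar := IsLocalRing.residue Q.O yO
  have hev : ∀ g : P.O[X], ((g.eval₂ ψ yO : Q.O) : K') = aeval y g := fun g => by
    rw [show ((g.eval₂ ψ yO : Q.O) : K') = Q.O.toSubring.subtype (g.eval₂ ψ yO) from rfl, hom_eval₂]
    rfl
  have hres : ∀ g : P.O[X], IsLocalRing.residue Q.O (g.eval₂ ψ yO) =
      aeval ybar (g.map (IsLocalRing.residue P.O)) := fun g => by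
    rw [hom_eval₂, aeval_def, eval₂_map]
    rfl
  have hle1 : ∀ g : P.O[X], Q.1 (aeval y g) ≤ 1 := fun g => hev g ▸ (g.eval₂ ψ yO).2
  have hsmall : ∀ g : P.O[X], g.map (IsLocalRing.residue P.O) = 0 → Q.1 (aeval y g) ≤ exp (-(e : ℤ)) := by
    intro g hg
    rw [aeval_eq_sum_range]
    refine Q.1.map_sum_le fun i _ => ?_
    rw [Algebra.smul_def, map_mul, map_pow]
    refine (mul_le_mul' ?_ (pow_le_one' hy i)).trans_eq (mul_one _)
    have := (lt_one_iff_le _).1 ((residue_eq_zero_iff P (g.coeff i)).1 (by
      rw [← coeff_map, hg, coeff_zero]))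
    show Q.1 (algebraMap K K' (g.coeff i : K)) ≤ _
    rw [he]
    refine (pow_le_pow_left₀ zero_le this e).trans_eq ?_
    rw [← exp_nsmul]; simp
  set fbar := fO.map (IsLocalRing.residue P.O)
  have hfbar : aeval ybar fbar = 0 := by
    rw [← hres, residue_eq_zero_iff, hev, hfy, map_zero]; exact zero_lt_one
  have hfbar' : aeval ybar (derivative fbar) ≠ 0 := by
    rw [derivative_map, ← hres, Ne, residue_eq_zero_iff, hev, ← aeval_map_algebraMap K, ← derivative_map, hfO, hder]
    exact lt_irrefl _
  have hfibre := finite_fibre (K' := K') h P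
  have hexists : ∀ (w : K') (m : ℤ), 0 ≤ m → ∃ z : K', Q.1 (z - w) = exp (-m) ∧
      ∀ R : Place k K', IsOver R P → R ≠ Q → R.1 z ≤ 1 := by
    intro w m hm
    obtain ⟨z, hz⟩ := weak_approx_eq hfibre.toFinset (fun R => if R = Q then w else 0)
      (fun R => if R = Q then m else 0)
    refine ⟨z, by simpa using hz Q (hfibre.mem_toFinset.2 hover), fun R hR hne => ?_⟩
    have := hz R (hfibre.mem_toFinset.2 hR)
    simp only [if_neg hne, sub_zero, neg_zero, exp_zero] at this
    exact this.le
  have hadj : ∀ z : K', (∀ R : Place k K', IsOver R P → R.1 z ≤ 1) →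
      ∃ g : P.O[X], aeval y g = algebraMap K K' d * z := by
    intro z hz
    have := Algebra.discr_mul_isIntegral_mem_adjoin K (R := P.O) (B := B) hint ((isIntegral_iff h P z).2 hz)
    rw [Algebra.adjoin_singleton_eq_range_aeval, AlgHom.mem_range, Algebra.smul_def] at this
    exact this
  have hd1 : Q.1 (algebraMap K K' d) = 1 := by rw [he, hdisc, one_pow]
  have hye : e = 1 := by
    by_contra hne
    have he2 : 2 ≤ e := by omega
    obtain ⟨z, hzQ, hz⟩ := hexists 0 1 zero_le_one
    rw [sub_zero] at hzQ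
    obtain ⟨g, hg⟩ := hadj z fun R hR => by
      rcases eq_or_ne R Q with rfl | hRQ
      · rw [hzQ, ← exp_zero, exp_le_exp]; norm_num
      · exact hz R hR hRQ
    have hdz : Q.1 (aeval y g) = exp (-1 : ℤ) := by rw [hg, map_mul, hd1, one_mul, hzQ]
    have hgbar : aeval ybar (g.map (IsLocalRing.residue P.O)) = 0 := by
      rw [← hres, residue_eq_zero_iff, hev, hdz, ← exp_zero, exp_lt_exp]; norm_num
    obtain ⟨r, hr⟩ := minpoly.dvd _ ybar hgbar
    obtain ⟨s, hs⟩ := minpoly.dvd _ ybar hfbar
    obtain ⟨mO, hmO⟩ := Polynomial.map_surjective _ IsLocalRing.residue_surjective (minpoly (IsLocalRing.ResidueField P.O) ybar)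
    obtain ⟨rO, hrO⟩ := Polynomial.map_surjective _ IsLocalRing.residue_surjective r
    obtain ⟨sO, hsO⟩ := Polynomial.map_surjective _ IsLocalRing.residue_surjective s
    have hs0 : aeval ybar s ≠ 0 := fun h0 => hfbar' (by
      rw [hs, derivative_mul, map_add, map_mul, map_mul, h0, minpoly.aeval, mul_zero, zero_mul, add_zero])
    have hsy : Q.1 (aeval y sO) = 1 := by
      refine le_antisymm (hle1 _) (not_lt.1 fun hlt => hs0 ?_)
      rw [← hsO, ← hres, residue_eq_zero_iff, hev]; exact hlt
    have h1 := hsmall (fO - mO * sO) (by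
      rw [Polynomial.map_sub, Polynomial.map_mul, hmO, hsO, show fO.map (IsLocalRing.residue P.O) = _ from hs, sub_self])
    rw [map_sub, hfy, zero_sub, Valuation.map_neg, map_mul, map_mul, hsy, mul_one] at h1
    have h2 := hsmall (g - mO * rO) (by rw [Polynomial.map_sub, Polynomial.map_mul, hmO, hrO, hr, sub_self])
    have h3 : Q.1 (aeval y g) ≤ exp (-(e : ℤ)) := by
      rw [show aeval y g = aeval y (g - mO * rO) + aeval y mO * aeval y rO by rw [map_sub, map_mul]; ring]
      exact Q.1.map_add_le h2 (by rw [map_mul]; exact (mul_le_mul' h1 (hle1 _)).trans_eq (mul_one _))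
    rw [hdz, exp_le_exp] at h3
    omega
  refine ⟨hye, ?_⟩
  suffices H : Algebra.IsSeparable (IsLocalRing.ResidueField P.O) (IsLocalRing.ResidueField Q.O) ∧
      ∀ a, a ∈ IntermediateField.adjoin (IsLocalRing.ResidueField P.O) ({ybar} : Set (IsLocalRing.ResidueField Q.O)) from
    ⟨H.1, hy, H.2⟩
  haveI : FiniteDimensional k (IsLocalRing.ResidueField Q.O) := (ff_extend h).finite_residueField Q
  have hysep : IsSeparable (IsLocalRing.ResidueField P.O) ybar := by
    obtain ⟨s, hs⟩ := minpoly.dvd _ ybar hfbar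
    have hdne : aeval ybar (derivative (minpoly (IsLocalRing.ResidueField P.O) ybar)) ≠ 0 := fun h0 => hfbar' (by
      rw [hs, derivative_mul, map_add, map_mul, map_mul, h0, minpoly.aeval, zero_mul, zero_mul, add_zero])
    have hirr : Irreducible (minpoly (IsLocalRing.ResidueField P.O) ybar) :=
      minpoly.irreducible ⟨fbar, hfm.map _, by rw [← aeval_def]; exact hfbar⟩
    exact (Polynomial.separable_iff_derivative_ne_zero hirr).2 fun h0 => hdne (by rw [h0, map_zero])
  have hall : ∀ a, a ∈ IntermediateField.adjoin (IsLocalRing.ResidueField P.O) ({ybar} : Set _) := by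
    intro a
    obtain ⟨w, rfl⟩ := IsLocalRing.residue_surjective a
    obtain ⟨z, hzQ, hz⟩ := hexists w 1 zero_le_one
    have hzle : Q.1 z ≤ 1 := by
      rw [show z = (z - w) + w by ring]
      refine Q.1.map_add_le ?_ w.2
      rw [hzQ, ← exp_zero, exp_le_exp]; norm_num
    obtain ⟨g, hg⟩ := hadj z fun R hR => by
      rcases eq_or_ne R Q with rfl | hRQ
      · exact hzle
      · exact hz R hR hRQ
    let dO : P.O := ⟨d, hdisc.le⟩
    let zO : Q.O := ⟨z, hzle⟩
    have e1 : g.eval₂ ψ yO = ψ dO * zO := Subtype.ext (by rw [hev, hg]; rfl)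
    have e2 : IsLocalRing.residue Q.O zO = IsLocalRing.residue Q.O w := by
      rw [← sub_eq_zero, ← map_sub, residue_eq_zero_iff]
      show Q.1 (z - w) < 1
      rw [hzQ, ← exp_zero, exp_lt_exp]; norm_num
    have e3 := congrArg (IsLocalRing.residue Q.O) e1
    rw [hres, map_mul, e2] at e3
    have hd0 : IsLocalRing.residue Q.O (ψ dO) ≠ 0 := by
      rw [Ne, residue_eq_zero_iff]
      show ¬ Q.1 (algebraMap K K' d) < 1
      rw [hd1]; exact lt_irrefl _
    rw [show IsLocalRing.residue Q.O w = (IsLocalRing.residue Q.O (ψ dO))⁻¹ * aeval ybar (g.map (IsLocalRing.residue P.O)) by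
      rw [e3, inv_mul_cancel_left₀ hd0]]
    refine mul_mem (inv_mem ?_) (IntermediateField.algebra_adjoin_le_adjoin _ _ (Polynomial.aeval_mem_adjoin_singleton _ _))
    exact (IntermediateField.adjoin _ _).algebraMap_mem (IsLocalRing.residue P.O dO)
  haveI : Algebra.IsSeparable (IsLocalRing.ResidueField P.O)
      (IntermediateField.adjoin (IsLocalRing.ResidueField P.O) ({ybar} : Set (IsLocalRing.ResidueField Q.O))) :=
    (IntermediateField.isSeparable_adjoin_simple_iff_isSeparable _ _).2 hysep
  set L := IntermediateField.adjoin (IsLocalRing.ResidueField P.O) ({ybar} : Set (IsLocalRing.ResidueField Q.O))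
  refine ⟨?_, hall⟩
  exact Algebra.IsSeparable.of_algHom (F := IsLocalRing.ResidueField P.O) (E' := L)
    ((AlgHom.id (IsLocalRing.ResidueField P.O) (IsLocalRing.ResidueField Q.O)).codRestrict L.toSubalgebra hall)

/-- Almost all places are unramified, with separable residue extension. -/
theorem exists_finite_bad (h : FF k K) :
    ∃ T : Set (Place k K'), T.Finite ∧ ∀ Q ∉ T, ∀ (P : Place k K) (e : ℕ) (he : IsOverWith Q P e),
      e = 1 ∧ (letI := (residueMap he).toRingHom.toAlgebra;
        Algebra.IsSeparable (IsLocalRing.ResidueField P.O) (IsLocalRing.ResidueField Q.O)) := by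
  classical
  let B := Field.powerBasisOfFiniteOfSeparable K K'
  set f := minpoly K B.gen
  have hd0 : aeval B.gen f.derivative ≠ 0 :=
    (Algebra.IsSeparable.isSeparable K B.gen).aeval_derivative_ne_zero (minpoly.aeval K B.gen)
  set bad : Set (Place k K) := {P | P.1 (Algebra.discr K B.basis) ≠ 1} ∪ ⋃ i ∈ f.support, {P | ¬ P.1 (f.coeff i) ≤ 1}
  have hbad : bad.Finite := (finite_val_ne_one h (Algebra.discr_not_zero_of_basis K B.basis)).union
    (f.support.finite_toSet.biUnion fun i _ => finite_one_lt_val h _)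
  refine ⟨{Q | Q.1 (aeval B.gen f.derivative) ≠ 1} ∪ ⋃ P ∈ bad, {Q | IsOver Q P},
    (finite_val_ne_one (ff_extend h) hd0).union (hbad.biUnion fun P _ => finite_fibre h P), fun Q hQ P e he => ?_⟩
  simp only [Set.mem_union, Set.mem_setOf_eq, Set.mem_iUnion, exists_prop, not_or, not_exists, not_and, ne_eq,
    not_not, bad] at hQ
  have hP := fun hb => hQ.2 P hb ⟨e, he⟩
  suffices hc : ∀ i, P.1 ((minpoly K B.gen).coeff i) ≤ 1 from
    let ⟨h1, h2, _⟩ := unramified_aux h B he hc (of_not_not fun hn => hP (Or.inl hn)) hQ.1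
    ⟨h1, h2⟩
  intro i
  by_contra hi
  refine hP (Or.inr ⟨i, ?_, hi⟩)
  rw [Finset.mem_coe.symm, Finset.mem_coe, Polynomial.mem_support_iff]
  intro h0
  exact hi (by rw [h0, map_zero]; exact zero_le)

theorem infinite_place (hK : IsFunctionField k K) : Infinite (Place k K) := by
  refine not_finite_iff_infinite.1 fun hfin => ?_
  classical
  haveI := Fintype.ofFinite (Place k K)
  obtain ⟨P⟩ := nonempty_place hK.1
  obtain ⟨y, hy⟩ := weak_approx_eq (Finset.univ : Finset (Place k K)) (fun _ => 0) (fun _ => 1)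
  simp only [sub_zero, Finset.mem_univ, true_implies] at hy
  obtain ⟨R, hR⟩ := exists_pole_of_transcendental hK.1
    (transcendental_of_ord_ne_zero hK P (t := y) (by rw [ord_eq_of_val_eq P (hy P)]; norm_num))
  rw [ord_eq_of_val_eq R (hy R)] at hR
  omega

omit [Algebra.IsSeparable K K'] [FiniteDimensional K K'] in
theorem infinite_separable_places {k : Type*} {K : Type*} [Field k] [Field K] [Algebra k K]
    (hK : IsFunctionField k K) (hg : IsGeometric k K) :
    {P : Place k K | Algebra.IsSeparable k (IsLocalRing.ResidueField P.O)}.Infinite := by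
  rcases finite_or_infinite k with hk | hk
  · haveI := infinite_place hK
    refine Set.infinite_univ.mono fun P _ => ?_
    haveI hfd : FiniteDimensional k (IsLocalRing.ResidueField P.O) := (ff hK).finite_residueField P
    haveI := @Algebra.IsAlgebraic.of_finite k (IsLocalRing.ResidueField P.O) _ _ _ _ hfd
    show Algebra.IsSeparable k (IsLocalRing.ResidueField P.O)
    infer_instance
  obtain ⟨x, hx, hsep⟩ := exists_separating hK.1 hg
  haveI := FunField.FF.finiteDimensional hK.1 hx
  set L := IntermediateField.adjoin k ({x} : Set K)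
  have hL : IsFunctionField k L :=
    isFunctionField_intermediateField hK L ⟨x, IntermediateField.mem_adjoin_simple_self k x, hx⟩
  let u : L := IntermediateField.AdjoinSimple.gen k x
  have hu : Transcendental k u := fun ha => hx (ha.algebraMap (A := K))
  have hgen : IntermediateField.adjoin k ({u} : Set L) = ⊤ := by
    apply IntermediateField.map_injective L.val
    rw [IntermediateField.adjoin_map, Set.image_singleton, ← AlgHom.fieldRange_eq_map, IntermediateField.fieldRange_val]
    rfl
  obtain ⟨T, hT, hgood⟩ := exists_finite_bad (k := k) (K := L) (K' := K) (ff hL)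
  have hP : ∀ c : k, ∃ P : Place k L, 0 < P.ord (u - algebraMap k L c) ∧
      ∀ a : IsLocalRing.ResidueField P.O, ∃ b, algebraMap k _ b = a := by
    intro c
    have hc : Transcendental k (u - algebraMap k L c) := fun ha =>
      hu (by simpa using ha.add (isAlgebraic_algebraMap c))
    obtain ⟨P, hP⟩ := exists_zero_of_transcendental (ff hL) hc
    refine ⟨P, hP, ?_⟩
    have h1 := sum_ord_mul_deg_le (ff hL) hc {P} (by simp [hP.le])
    have htop : IntermediateField.adjoin k ({u - algebraMap k L c} : Set L) = ⊤ := by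
      rw [eq_top_iff, ← hgen, IntermediateField.adjoin_simple_le_iff]
      simpa using add_mem (IntermediateField.mem_adjoin_simple_self k (u - algebraMap k L c))
        ((IntermediateField.adjoin k ({u - algebraMap k L c} : Set L)).algebraMap_mem c)
    rw [Finset.sum_singleton, htop, IntermediateField.finrank_top, Nat.cast_one] at h1
    have hdeg : P.deg = 1 := by
      have := deg_pos (ff hL) P
      nlinarith
    intro a
    obtain ⟨b, hb⟩ := (finrank_eq_one_iff_of_nonzero' (K := k) (1 : IsLocalRing.ResidueField P.O) one_ne_zero).1 hdeg a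
    exact ⟨b, by rwa [Algebra.algebraMap_eq_smul_one]⟩
  choose P hPz hPres using hP
  choose Q hQ using fun c => exists_over (K' := K) (ff hL) (P c)
  have hinj : Function.Injective Q := by
    intro c c' e
    have hPP : P c = P c' := ((isOver_iff (ff hL)).1 (hQ c)).symm.trans (e ▸ (isOver_iff (ff hL)).1 (hQ c'))
    by_contra hne
    have h1 := hPz c
    have h2 := hPz c'
    rw [← hPP] at h2
    have ne0 : ∀ {w : L}, 0 < (P c).ord w → w ≠ 0 := fun hw h0 => by simp [h0] at hw
    rw [← val_lt_one_iff' _ (ne0 h1)] at h1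
    rw [← val_lt_one_iff' _ (ne0 h2)] at h2
    have h3 := (P c).1.map_sub_lt h1 h2
    rw [sub_sub_sub_cancel_left, ← map_sub, val_const _ (sub_ne_zero.2 (Ne.symm hne))] at h3
    exact lt_irrefl _ h3
  refine (((Set.infinite_range_of_injective hinj).diff hT).mono ?_)
  rintro _ ⟨⟨c, rfl⟩, hcT⟩
  obtain ⟨e, he⟩ := hQ c
  obtain ⟨-, hsepQ⟩ := hgood _ hcT _ e he
  letI := (residueMap he).toRingHom.toAlgebra
  haveI := hsepQ
  haveI : IsScalarTower k (IsLocalRing.ResidueField (P c).O) (IsLocalRing.ResidueField (Q c).O) :=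
    IsScalarTower.of_algebraMap_eq fun a => ((residueMap he).commutes a).symm
  haveI : Algebra.IsSeparable k (IsLocalRing.ResidueField (P c).O) := ⟨fun a => by
    obtain ⟨b, rfl⟩ := hPres c a
    exact isSeparable_algebraMap b⟩
  exact Algebra.IsSeparable.trans k (IsLocalRing.ResidueField (P c).O) _

end Groth.Agent.GeomFF26
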