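import Groth.Agent.Lib.GeomFF26.ClassNumber
import Groth.Agent.Lib.GeomFF26.Perfect
import Groth.Agent.Lib.GeomFF26.Unramified
import Mathlib.FieldTheory.Finite.Extension
import Mathlib.FieldTheory.Finite.Basic

/-! # F. K. Schmidt: divisors of degree one exist -/

namespace Groth.Agent.GeomFF26

open WithZero FunFld FunField Polynomial
open scoped Multiplicative IntermediateField

universe u v

variable {k : Type u} {K : Type v} [Field k] [Field K] [Algebra k K]

theorem exists_irreducible_natDegree [Finite k] (n : ℕ) [NeZero n] :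
    ∃ f : k[X], f.Monic ∧ Irreducible f ∧ f.natDegree = n := by
  obtain ⟨p, hp⟩ := CharP.exists k
  haveI := hp
  haveI : Fact p.Prime := ⟨CharP.char_is_prime k p⟩
  have hn := FiniteField.finrank_extension k p n
  haveI : FiniteDimensional k (FiniteField.Extension k p n) :=
    Module.finite_of_finrank_pos (by rw [hn]; exact Nat.pos_of_ne_zero (NeZero.ne n))
  haveI : Algebra.IsSeparable k (FiniteField.Extension k p n) := Algebra.IsAlgebraic.isSeparable_of_perfectField
  let pb := Field.powerBasisOfFiniteOfSeparable k (FiniteField.Extension k p n)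
  exact ⟨minpoly k pb.gen, minpoly.monic pb.isIntegral_gen, minpoly.irreducible pb.isIntegral_gen, by
    rw [pb.natDegree_minpoly, ← pb.finrank, hn]⟩

/-- An element killed by an irreducible polynomial of degree dividing the degree of a finite field lies in it. -/
theorem mem_range_of_root [Finite k] {L M : Type*} [Field L] [Field M] [Algebra k L] [Algebra k M]
    [FiniteDimensional k L] {f : k[X]} (hf : f.Monic) (hirr : Irreducible f)
    (hd : f.natDegree ∣ Module.finrank k L) (ι : L →ₐ[k] M) {a : M} (ha : aeval a f = 0) : a ∈ ι.range := by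
  classical
  haveI : Finite L := Module.finite_of_finite k
  haveI := Fintype.ofFinite L
  have hint : IsIntegral k a := ⟨f, hf, by rw [← aeval_def]; exact ha⟩
  have hmin : f = minpoly k a := minpoly.eq_of_irreducible_of_monic hirr ha hf
  haveI : FiniteDimensional k k⟮a⟯ := IntermediateField.adjoin.finiteDimensional hint
  haveI : Finite k⟮a⟯ := Module.finite_of_finite k
  haveI := Fintype.ofFinite k⟮a⟯
  haveI := Fintype.ofFinite k
  obtain ⟨m, hm⟩ := hd
  have hcard : Fintype.card L = Fintype.card k⟮a⟯ ^ m := by
    rw [← Nat.card_eq_fintype_card, ← Nat.card_eq_fintype_card, Module.natCard_eq_pow_finrank (K := k) (V := L),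
      Module.natCard_eq_pow_finrank (K := k) (V := k⟮a⟯), IntermediateField.adjoin.finrank hint, ← hmin, hm, pow_mul]
  have hN : a ^ Fintype.card L = a := by
    rw [hcard]
    exact congrArg Subtype.val (FiniteField.pow_card_pow m (IntermediateField.AdjoinSimple.gen k a))
  have hne : (X ^ Fintype.card L - X : M[X]) ≠ 0 := FiniteField.X_pow_card_sub_X_ne_zero M Fintype.one_lt_card
  have hsub : Finset.univ.image ι ⊆ (X ^ Fintype.card L - X : M[X]).roots.toFinset := by
    intro b hb
    obtain ⟨c, -, rfl⟩ := Finset.mem_image.1 hb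
    rw [Multiset.mem_toFinset, mem_roots hne, IsRoot.def]
    simp [← map_pow, FiniteField.pow_card]
  have heq := Finset.eq_of_subset_of_card_le hsub (by
    rw [Finset.card_image_of_injective (f := ⇑ι) _ (fun a b e => ι.toRingHom.injective e), Finset.card_univ]
    refine (Multiset.toFinset_card_le _).trans ((card_roots' _).trans_eq ?_)
    exact FiniteField.X_pow_card_sub_X_natDegree_eq M Fintype.one_lt_card)
  have ha' : a ∈ Finset.univ.image ι := by
    rw [heq, Multiset.mem_toFinset, mem_roots hne, IsRoot.def]
    simp [hN]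
  obtain ⟨c, -, hc⟩ := Finset.mem_image.1 ha'
  exact ⟨c, hc⟩

theorem deg_mul_finrank {k k' K' : Type*} [Field k] [Field k'] [Field K'] [Algebra k k'] [Algebra k K'] [Algebra k' K']
    [IsScalarTower k k' K'] (Q : Place k K') (R : Place k' K') (h : R.1 = Q.1) :
    R.deg * Module.finrank k k' = Q.deg := by
  obtain ⟨v, hv⟩ := Q
  obtain ⟨w, hw⟩ := R
  simp only at h
  subst h
  let R : Place k' K' := ⟨w, hw⟩
  let Q : Place k K' := ⟨w, hv⟩
  letI : Algebra k (IsLocalRing.ResidueField R.O) := FunFld.Place.algRes Q
  letI : Algebra k' (IsLocalRing.ResidueField R.O) := FunFld.Place.algRes R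
  haveI : IsScalarTower k k' (IsLocalRing.ResidueField R.O) := IsScalarTower.of_algebraMap_eq fun c =>
    congrArg (IsLocalRing.residue R.O) (Subtype.ext (IsScalarTower.algebraMap_apply k k' K' c))
  rw [mul_comm]
  exact Module.finrank_mul_finrank k k' (IsLocalRing.ResidueField R.O)

/-- A finite constant extension of degree at least two, splitting every place whose degree it divides. -/
theorem exists_split_extension [Finite k] (hK : IsFunctionField k K) (δ : ℕ) (hδ : 2 ≤ δ)
    (hdiv : ∀ P : Place k K, δ ∣ P.deg) :
    ∃ (k' : Type u) (K' : Type v) (_ : Field k') (_ : Field K') (_ : Algebra k' K') (_ : Finite k'),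
      IsFunctionField k' K' ∧ Nat.card k' = Nat.card k ^ δ ∧
      ∃ q₀ q₁ : Place k K → Place k' K', q₀.Injective ∧ q₁.Injective ∧ (∀ P R, q₀ P ≠ q₁ R) ∧
        ∀ P, (q₀ P).deg * δ = P.deg ∧ (q₁ P).deg * δ = P.deg := by
  classical
  have h := ff hK
  haveI : NeZero δ := ⟨by omega⟩
  obtain ⟨f, hf, hirr, hfd'⟩ := exists_irreducible_natDegree (k := k) δ
  have hirrK : Irreducible (f.map (algebraMap k K)) := irreducible_map hK.2 hf hirr
  haveI := Fact.mk hirr
  haveI := Fact.mk hirrK
  set fK := f.map (algebraMap k K) with hfK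
  have hfKm : fK.Monic := hf.map _
  let k' := AdjoinRoot f
  let K' := AdjoinRoot fK
  let θ : K' := AdjoinRoot.root fK
  have hθ : aeval θ f = 0 := by
    rw [← aeval_map_algebraMap K]
    exact (AdjoinRoot.aeval_eq fK).trans AdjoinRoot.mk_self
  let inc : k' →ₐ[k] K' := AdjoinRoot.liftAlgHom f (Algebra.ofId k K') θ hθ
  letI : Algebra k' K' := inc.toRingHom.toAlgebra
  haveI : IsScalarTower k k' K' := IsScalarTower.of_algebraMap_eq fun c => (inc.commutes c).symm
  haveI : FiniteDimensional k k' := (AdjoinRoot.powerBasis hirr.ne_zero).finite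
  haveI : Finite k' := Module.finite_of_finite k
  haveI : FiniteDimensional K K' := (AdjoinRoot.powerBasis hirrK.ne_zero).finite
  have hk' : Module.finrank k k' = δ := by
    rw [(AdjoinRoot.powerBasis hirr.ne_zero).finrank, AdjoinRoot.powerBasis_dim, hfd']
  have hK'd : Module.finrank K K' = δ := by
    rw [(AdjoinRoot.powerBasis hirrK.ne_zero).finrank, AdjoinRoot.powerBasis_dim, natDegree_map, hfd']
  -- the extension is a function field over `k'`
  obtain ⟨x, hx, hfin⟩ := id h
  haveI := hfin
  haveI := FiniteDimensional.trans k⟮x⟯ K K'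
  have hx' : Transcendental k' (algebraMap K K' x) := fun halg =>
    hx ((isAlgebraic_algebraMap_iff (algebraMap K K').injective).1 (halg.restrictScalars k))
  have hFF : FF k' K' := by
    refine ⟨algebraMap K K' x, hx', ?_⟩
    set E := IntermediateField.adjoin k' ({algebraMap K K' x} : Set K')
    have hle : ∀ z : k⟮x⟯, algebraMap K K' z ∈ E := fun z => by
      refine IntermediateField.adjoin_induction (F := k) (p := fun w _ => algebraMap K K' w ∈ E) ?_ ?_
        (fun a b _ _ ha hb => by rw [map_add]; exact add_mem ha hb)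
        (fun a _ ha => by rw [map_inv₀]; exact inv_mem ha)
        (fun a b _ _ ha hb => by rw [map_mul]; exact mul_mem ha hb) z.2
      · intro w hw; rw [Set.mem_singleton_iff] at hw; exact hw ▸ IntermediateField.mem_adjoin_simple_self k' _
      · intro c; rw [← IsScalarTower.algebraMap_apply, IsScalarTower.algebraMap_apply k k' K']; exact E.algebraMap_mem _
    letI : Algebra k⟮x⟯ E := (((algebraMap K K').comp k⟮x⟯.toSubalgebra.val.toRingHom).codRestrict
      E.toSubalgebra.toSubring hle).toAlgebra
    haveI : IsScalarTower k⟮x⟯ E K' := IsScalarTower.of_algebraMap_eq fun _ => rfl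
    exact Module.Finite.of_restrictScalars_finite k⟮x⟯ E K'
  have hcl' : ∀ y : K', IsAlgebraic k' y → y ∈ Set.range (algebraMap k' K') := by
    intro y hy
    have hyk : IsIntegral k y := isIntegral_trans y hy.isIntegral
    haveI : FiniteDimensional k k⟮y⟯ := IntermediateField.adjoin.finiteDimensional hyk
    set E := k⟮y⟯ ⊔ (IsScalarTower.toAlgHom k k' K').fieldRange
    haveI : FiniteDimensional k (IsScalarTower.toAlgHom k k' K').fieldRange :=
      (AlgEquiv.ofInjectiveField (IsScalarTower.toAlgHom k k' K')).toLinearEquiv.finiteDimensional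
    haveI : FiniteDimensional k E := IntermediateField.finiteDimensional_sup _ _
    haveI : Algebra.IsSeparable k E := Algebra.IsAlgebraic.isSeparable_of_perfectField
    let pb := Field.powerBasisOfFiniteOfSeparable k E
    set z : K' := (pb.gen : K')
    have hz : IsIntegral k z := pb.isIntegral_gen.map E.val
    have hmz : minpoly k z = minpoly k pb.gen := minpoly.algHom_eq E.val E.val.toRingHom.injective _
    have hdE : Module.finrank k E ≤ δ := by
      have h1 : (minpoly k z).map (algebraMap k K) = minpoly K z := minpoly.eq_of_irreducible_of_monic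
        (irreducible_map hK.2 (minpoly.monic hz) (minpoly.irreducible hz))
        (by rw [aeval_map_algebraMap, minpoly.aeval]) ((minpoly.monic hz).map _)
      have h2 := minpoly.natDegree_le (A := K) z
      rw [← h1, natDegree_map, hmz, pb.natDegree_minpoly, ← pb.finrank, hK'd] at h2
      exact h2
    have hle : (IsScalarTower.toAlgHom k k' K').fieldRange ≤ E := le_sup_right
    have heq := IntermediateField.eq_of_le_of_finrank_le hle (by
      rw [show Module.finrank k (IsScalarTower.toAlgHom k k' K').fieldRange = δ from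
        (AlgEquiv.ofInjectiveField (IsScalarTower.toAlgHom k k' K')).toLinearEquiv.finrank_eq.symm.trans hk']
      exact hdE)
    have : y ∈ (IsScalarTower.toAlgHom k k' K').fieldRange :=
      heq ▸ (le_sup_left : k⟮y⟯ ≤ E) (IntermediateField.mem_adjoin_simple_self k y)
    exact this
  have hK' : IsFunctionField k' K' := ⟨hFF, hcl'⟩
  -- every place splits completely
  have hsep : f.Separable := PerfectField.separable_of_irreducible hirr
  haveI : Algebra.IsSeparable k k' := Algebra.IsAlgebraic.isSeparable_of_perfectField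
  let B : PowerBasis K K' := AdjoinRoot.powerBasis hirrK.ne_zero
  have hgen : B.gen = θ := AdjoinRoot.powerBasis_gen _
  have hmin : minpoly K B.gen = fK := by
    rw [hgen]
    refine (minpoly.eq_of_irreducible_of_monic hirrK ?_ hfKm).symm
    rw [aeval_map_algebraMap, hθ]
  haveI : Algebra.IsSeparable K K' := by
    have hsθ : IsSeparable K θ := by
      rw [IsSeparable, ← hgen, hmin]
      exact hsep.map
    have htop : IntermediateField.adjoin K ({θ} : Set K') = ⊤ := by
      rw [eq_top_iff]
      intro w _
      obtain ⟨g, hg⟩ := AdjoinRoot.mk_surjective w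
      rw [← hg, ← AdjoinRoot.aeval_eq]
      exact IntermediateField.algebra_adjoin_le_adjoin _ _ (Polynomial.aeval_mem_adjoin_singleton _ _)
    haveI : Algebra.IsSeparable K (IntermediateField.adjoin K ({θ} : Set K')) :=
      (IntermediateField.isSeparable_adjoin_simple_iff_isSeparable _ _).2 hsθ
    exact AlgEquiv.Algebra.isSeparable ((IntermediateField.equivOfEq htop).trans IntermediateField.topEquiv)
  have hθint : IsIntegral k θ := ⟨f, hf, by rw [← aeval_def]; exact hθ⟩
  have hsplit : ∀ (Q : Place k K') (P : Place k K) (e : ℕ), IsOverWith Q P e → e = 1 ∧ Q.deg = P.deg := by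
    intro Q P e he
    have hcoef : ∀ i, P.1 ((minpoly K B.gen).coeff i) ≤ 1 := fun i => by rw [hmin, coeff_map]; exact P.2.1 _
    have hd0 := Algebra.discr_not_zero_of_basis K B.basis
    have hdisc : P.1 (Algebra.discr K B.basis) = 1 := val_eq_one_of_isAlgebraic P
      (IsIntegral.isAlgebraic (Algebra.discr_isIntegral (R := k) K fun i => by
        rw [B.basis_eq_pow, hgen]; exact hθint.pow _)) hd0
    have hder : Q.1 (aeval B.gen (minpoly K B.gen).derivative) = 1 := by
      refine val_eq_one_of_isAlgebraic Q ?_ ?_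
      · rw [hmin, derivative_map, aeval_map_algebraMap, hgen]
        exact (IsIntegral.of_mem_of_fg _ hθint.fg_adjoin_singleton _ (Polynomial.aeval_mem_adjoin_singleton k θ)).isAlgebraic
      · exact (Algebra.IsSeparable.isSeparable K B.gen).aeval_derivative_ne_zero (minpoly.aeval K B.gen)
    obtain ⟨he1, -, hy, hall⟩ := unramified_aux h B he hcoef hdisc hder
    refine ⟨he1, ?_⟩
    haveI hfd : FiniteDimensional k (IsLocalRing.ResidueField P.O) := h.finite_residueField P
    let ρ : Q.O →ₐ[k] IsLocalRing.ResidueField Q.O := { IsLocalRing.residue Q.O with commutes' := fun _ => rfl }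
    have hroot : aeval (ρ ⟨B.gen, hy⟩) f = 0 := by
      rw [aeval_algHom_apply]
      have : aeval (⟨B.gen, hy⟩ : Q.O) f = 0 := Subtype.ext (by
        have h2 := aeval_algHom_apply (inclAlg Q) ⟨B.gen, hy⟩ f
        exact h2.symm.trans (show aeval B.gen f = 0 by rw [hgen, hθ]))
      rw [this, map_zero]
    have hmem := @mem_range_of_root k _ _ (IsLocalRing.ResidueField P.O) (IsLocalRing.ResidueField Q.O) _ _ _ _ hfd f hf hirr
      (show f.natDegree ∣ P.deg by rw [hfd']; exact hdiv P) (residueMap he) _ hroot
    letI := (residueMap he).toRingHom.toAlgebra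
    have hsurj : Function.Surjective (residueMap he) := by
      intro a
      have := hall a
      obtain ⟨c, hc⟩ := hmem
      have hbot : IntermediateField.adjoin (IsLocalRing.ResidueField P.O) ({IsLocalRing.residue Q.O ⟨B.gen, hy⟩} : Set (IsLocalRing.ResidueField Q.O)) = ⊥ :=
        IntermediateField.adjoin_simple_eq_bot_iff.2 (IntermediateField.mem_bot.2 ⟨c, hc⟩)
      rw [hbot, IntermediateField.mem_bot] at this
      exact this
    exact ((AlgEquiv.ofBijective (residueMap he) ⟨(residueMap he).toRingHom.injective, hsurj⟩).toLinearEquiv.finrank_eq).symm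
  have htwo : ∀ P : Place k K, ∃ Q₀ Q₁ : Place k K', IsOver Q₀ P ∧ IsOver Q₁ P ∧ Q₀ ≠ Q₁ := by
    intro P
    have hs := sum_fibre (K' := K') h P (finite_fibre h P).toFinset fun Q => (finite_fibre h P).mem_toFinset
    rw [Finset.sum_congr rfl (g := fun _ => P.deg) fun Q hQ => by
      obtain ⟨e, he⟩ := (finite_fibre h P).mem_toFinset.1 hQ
      obtain ⟨he1, hd⟩ := hsplit Q P e he
      rw [ramIdx_eq he, he1, one_mul, hd], Finset.sum_const, smul_eq_mul, hK'd] at hs
    have hc := Nat.eq_of_mul_eq_mul_right (deg_pos h P) hs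
    obtain ⟨Q₀, h0, Q₁, h1, hne⟩ := Finset.one_lt_card.1 (show 1 < (finite_fibre (K' := K') h P).toFinset.card by omega)
    exact ⟨Q₀, Q₁, (finite_fibre h P).mem_toFinset.1 h0, (finite_fibre h P).mem_toFinset.1 h1, hne⟩
  choose Q₀ Q₁ h0 h1 hne using htwo
  let conv : Place k K' → Place k' K' := fun Q => ⟨Q.1, fun c => by
    rcases eq_or_ne c 0 with rfl | hc
    · simp
    · exact (val_eq_one_of_isAlgebraic Q ((Algebra.IsAlgebraic.isAlgebraic c).algebraMap) (by simpa using hc)).le,
    Q.2.2⟩
  have hconv : Function.Injective conv := fun Q Q' e => Subtype.ext (congrArg Subtype.val e :)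
  have hdeg : ∀ Q : Place k K', (conv Q).deg * δ = Q.deg := fun Q => hk' ▸ deg_mul_finrank Q (conv Q) rfl
  have hdP : ∀ {Q : Place k K'} {P : Place k K}, IsOver Q P → Q.deg = P.deg := fun {Q P} ⟨e, he⟩ => (hsplit Q P e he).2
  have huniq : ∀ {Q Q' : Place k K'} {P P' : Place k K}, IsOver Q P → IsOver Q' P' → conv Q = conv Q' → P = P' :=
    fun {Q Q' P P'} ho ho' e => by
      have := hconv e
      subst this
      exact ((isOver_iff h).1 ho).symm.trans ((isOver_iff h).1 ho')
  refine ⟨k', K', inferInstance, inferInstance, inferInstance, inferInstance, hK', ?_, conv ∘ Q₀, conv ∘ Q₁,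
    fun P R e => huniq (h0 P) (h0 R) e, fun P R e => huniq (h1 P) (h1 R) e, fun P R e => ?_,
    fun P => ⟨(hdeg _).trans (hdP (h0 P)), (hdeg _).trans (hdP (h1 P))⟩⟩
  · rw [Module.natCard_eq_pow_finrank (K := k) (V := k'), hk']
  · have := huniq (h0 P) (h1 R) e
    subst this
    exact hne P (hconv e)

end Groth.Agent.GeomFF26
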