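import Groth.Agent.Lib.GeomFF26.DegreeOne

/-! # The degree of divisors is surjective over a finite field -/

namespace Groth.Agent.GeomFF26

open WithZero FunFld FunField
open scoped Multiplicative

universe u v

variable {k : Type u} {K : Type v} [Field k] [Field K] [Algebra k K]

theorem pow_sub_le_effDivCount [Finite k] (hK : IsFunctionField k K) {n : ℕ} (hg : genus k K ≤ n)
    (hn : 2 * genus k K ≤ n + 1) (hex : ∃ D : Divisor k K, D.deg = (n : ℤ)) :
    Nat.card k ^ (n - genus k K) ≤ effDivCount k K n := by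
  have h1 := effDivCount_eq hK hn hex
  have hh : (1 : ℤ) ≤ classNum k K := by exact_mod_cast classNum_pos hK
  have hq : (2 : ℤ) ≤ Nat.card k := by exact_mod_cast Finite.one_lt_card (α := k)
  set q : ℤ := (Nat.card k : ℤ)
  set e := n - genus k K with he
  rw [show n + 1 - genus k K = e + 1 by omega] at h1
  have h2 : (q - 1) * q ^ e ≤ (q - 1) * (effDivCount k K n : ℤ) := by
    rw [h1, pow_succ]
    have hp : (1 : ℤ) ≤ q ^ e := one_le_pow₀ (by omega)
    have h3 : (1 : ℤ) ≤ q ^ e * q := by nlinarith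
    nlinarith [mul_le_mul_of_nonneg_right hh (show (0 : ℤ) ≤ q ^ e * q - 1 by omega)]
  have h4 := le_of_mul_le_mul_left h2 (by omega)
  simp only [q, e] at h4 ⊢
  exact_mod_cast h4

theorem effDivCount_le [Finite k] (hK : IsFunctionField k K) {n : ℕ} (hn : 2 * genus k K ≤ n + 1) :
    effDivCount k K n ≤ classNum k K * Nat.card k ^ (n + 1) := by
  by_cases hex : ∃ D : Divisor k K, D.deg = (n : ℤ)
  · have h1 := effDivCount_eq hK hn hex
    have hq : (2 : ℤ) ≤ Nat.card k := by exact_mod_cast Finite.one_lt_card (α := k)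
    have h2 : (Nat.card k : ℤ) ^ (n + 1 - genus k K) ≤ (Nat.card k : ℤ) ^ (n + 1) := pow_le_pow_right₀ (by omega) (by omega)
    have h3 : (effDivCount k K n : ℤ) ≤ ((Nat.card k : ℤ) - 1) * effDivCount k K n :=
      le_mul_of_one_le_left (Int.natCast_nonneg _) (by omega)
    rw [h1] at h3
    have h4 := mul_le_mul_of_nonneg_left h2 (Int.natCast_nonneg (classNum k K))
    have h5 : (effDivCount k K n : ℤ) ≤ (classNum k K : ℤ) * (Nat.card k : ℤ) ^ (n + 1) := by nlinarith
    exact_mod_cast h5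
  · rw [effDivCount_eq_zero hex]; exact Nat.zero_le _

theorem deg_sum_mapDomain {k' K' : Type*} [Field k'] [Field K'] [Algebra k' K'] (q : Place k K → Place k' K') (δ : ℕ)
    (hq : ∀ P, (q P).deg * δ = P.deg) (D : Divisor k K) :
    Divisor.deg (D.mapDomain q : Divisor k' K') * δ = D.deg := by
  rw [Divisor.deg, Divisor.deg, Finsupp.sum_mapDomain_index (fun _ => zero_mul _) (fun _ _ _ => add_mul _ _ _),
    Finsupp.sum, Finsupp.sum, Finset.sum_mul]
  refine Finset.sum_congr rfl fun P _ => ?_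
  rw [← hq P]
  push_cast
  ring

theorem deg_surjective [Finite k] (hK : IsFunctionField k K) :
    Function.Surjective (Divisor.deg : Divisor k K → ℤ) := by
  classical
  have h := ff hK
  obtain ⟨P₀⟩ := nonempty_place h
  set I : Ideal ℤ := AddSubgroup.toIntSubmodule (degHom k K).range
  obtain ⟨d, hd⟩ := (IsPrincipalIdealRing.principal I).principal
  have hmem : ∀ n : ℤ, (∃ D : Divisor k K, D.deg = n) ↔ (d.natAbs : ℤ) ∣ n := fun n => by
    rw [Int.natAbs_dvd, ← Ideal.mem_span_singleton, Ideal.span, ← hd]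
    exact ⟨fun ⟨D, hD⟩ => ⟨D, hD⟩, fun ⟨D, hD⟩ => ⟨D, hD⟩⟩
  set δ := d.natAbs
  by_cases h1 : δ ≤ 1
  · intro n
    refine (hmem n).2 ?_
    rcases Nat.eq_zero_or_pos δ with h0 | h0
    · have := (hmem _).1 ⟨Finsupp.single P₀ 1, rfl⟩
      rw [h0, deg_single, Nat.cast_zero, zero_dvd_iff] at this
      have := deg_pos h P₀
      omega
    · rw [show δ = 1 by omega]; exact one_dvd _
  exfalso
  have hdiv : ∀ P : Place k K, δ ∣ P.deg := fun P => by
    have := (hmem _).1 ⟨Finsupp.single P 1, rfl⟩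
    rw [deg_single, one_mul] at this
    exact_mod_cast this
  obtain ⟨k', K', _, _, _, _, hK', hcard, q₀, q₁, hq0, hq1, hne, hdeg⟩ := exists_split_extension hK δ (by omega) hdiv
  set g := genus k K
  set g' := genus k' K'
  set Q := Nat.card k
  set C := classNum k' K' * Q ^ δ * Q ^ (2 * g)
  set N := 2 * g + g'
  set m := 2 * N + C with hm
  let S := Σ i : Fin (C + 1), {D : Divisor k K // 0 ≤ D ∧ D.deg = ((δ * (N + i.1) : ℕ) : ℤ)} ×
    {D : Divisor k K // 0 ≤ D ∧ D.deg = ((δ * (m - (N + i.1)) : ℕ) : ℤ)}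
  have hpos : ∀ (q : Place k K → Place k' K') (D : Divisor k K), 0 ≤ D → 0 ≤ (D.mapDomain q : Divisor k' K') :=
    fun q D hD R => by
      rw [Finsupp.mapDomain, Finsupp.sum_apply]
      refine Finset.sum_nonneg fun P _ => ?_
      simp only [Finsupp.single_apply]
      split <;> first | exact le_rfl | exact hD P
  let F : S → {D : Divisor k' K' // 0 ≤ D ∧ D.deg = (m : ℤ)} := fun s =>
    ⟨s.2.1.1.mapDomain q₀ + s.2.2.1.mapDomain q₁, add_nonneg (hpos _ _ s.2.1.2.1) (hpos _ _ s.2.2.2.1), by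
      have e1 := deg_sum_mapDomain q₀ δ (fun P => (hdeg P).1) s.2.1.1
      have e2 := deg_sum_mapDomain q₁ δ (fun P => (hdeg P).2) s.2.2.1
      rw [s.2.1.2.2] at e1
      rw [s.2.2.2.2] at e2
      rw [deg_add]
      have hi : N + (s.1 : ℕ) ≤ m := by have := s.1.2; omega
      refine mul_right_cancel₀ (show (δ : ℤ) ≠ 0 by omega) ?_
      rw [add_mul, e1, e2, ← Nat.cast_add, ← Nat.mul_add, show N + (s.1 : ℕ) + (m - (N + s.1)) = m by omega]
      push_cast
      ring⟩
  have hF : Function.Injective F := by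
    rintro ⟨i, D, E⟩ ⟨i', D', E'⟩ e
    have e' := congrArg Subtype.val e
    simp only [F] at e'
    have hD : D.1 = D'.1 := Finsupp.ext fun P => by
      have := DFunLike.congr_fun e' (q₀ P)
      simpa [Finsupp.mapDomain_apply hq0, Finsupp.mapDomain_of_notMem_range _ _ (show q₀ P ∉ Set.range q₁ from
        fun ⟨R, hR⟩ => hne P R hR.symm)] using this
    have hE : E.1 = E'.1 := Finsupp.ext fun P => by
      have := DFunLike.congr_fun e' (q₁ P)
      simpa [Finsupp.mapDomain_apply hq1, Finsupp.mapDomain_of_notMem_range _ _ (show q₁ P ∉ Set.range q₀ from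
        fun ⟨R, hR⟩ => hne R P hR)] using this
    obtain rfl : i = i' := by
      refine Fin.ext ?_
      have h1 := D.2.2
      rw [hD, D'.2.2] at h1
      have := Nat.eq_of_mul_eq_mul_left (by omega) (Int.ofNat_inj.1 h1)
      omega
    rw [Subtype.ext hD, Subtype.ext hE]
  haveI := finite_effDiv (ff hK') (m : ℤ)
  have hle := Nat.card_le_card_of_injective F hF
  haveI : ∀ n : ℤ, Finite {D : Divisor k K // 0 ≤ D ∧ D.deg = n} := finite_effDiv h
  rw [Nat.card_sigma] at hle
  have hterm : ∀ i : Fin (C + 1), Q ^ (δ * m - 2 * g) ≤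
      Nat.card ({D : Divisor k K // 0 ≤ D ∧ D.deg = ((δ * (N + i.1) : ℕ) : ℤ)} ×
        {D : Divisor k K // 0 ≤ D ∧ D.deg = ((δ * (m - (N + i.1)) : ℕ) : ℤ)}) := by
    intro i
    have hi := i.2
    have a1 : N + i.1 ≤ δ * (N + i.1) := Nat.le_mul_of_pos_left _ (by omega)
    have a2 : m - (N + i.1) ≤ δ * (m - (N + i.1)) := Nat.le_mul_of_pos_left _ (by omega)
    have b1 := pow_sub_le_effDivCount hK (n := δ * (N + i.1)) (by omega) (by omega)
      ((hmem _).2 (by push_cast; exact dvd_mul_right _ _))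
    have b2 := pow_sub_le_effDivCount hK (n := δ * (m - (N + i.1))) (by omega) (by omega)
      ((hmem _).2 (by rw [Nat.cast_mul]; exact dvd_mul_right _ _))
    rw [Nat.card_prod]
    refine le_trans ?_ (Nat.mul_le_mul b1 b2)
    rw [← pow_add]
    refine Nat.pow_le_pow_right Nat.card_pos ?_
    have : δ * (N + i.1) + δ * (m - (N + i.1)) = δ * m := by rw [← Nat.mul_add]; congr 1; omega
    omega
  have hlow := (Finset.sum_le_sum fun i _ => hterm i).trans hle
  rw [Finset.sum_const, Finset.card_univ, Fintype.card_fin, smul_eq_mul] at hlow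
  have hup : effDivCount k' K' m ≤ classNum k' K' * Nat.card k' ^ (m + 1) := effDivCount_le hK' (by omega)
  rw [hcard, ← pow_mul, show δ * (m + 1) = δ * m - 2 * g + (δ + 2 * g) by
    have : 2 * g ≤ δ * m := le_trans (by omega) (Nat.le_mul_of_pos_left m (by omega : 0 < δ))
    rw [Nat.mul_add]; omega, pow_add] at hup
  have h3 : (C + 1) * Q ^ (δ * m - 2 * g) ≤ C * Q ^ (δ * m - 2 * g) := by
    refine hlow.trans (hup.trans_eq ?_)
    simp only [C]; ring
  have hQ : 0 < Q ^ (δ * m - 2 * g) := pow_pos Nat.card_pos _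
  nlinarith

end Groth.Agent.GeomFF26
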