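import Groth.Agent.Lib.FunField.LinEquiv
import Groth.Prelude.Def_W4bk4goldsch45
import Mathlib.RingTheory.Polynomial.Basic
import Mathlib.GroupTheory.QuotientGroup.Defs

/-! # Divisor classes over a finite constant field -/

namespace Groth.Agent.GeomFF26

open WithZero FunFld FunField Polynomial
open scoped Multiplicative

variable {k K : Type*} [Field k] [Field K] [Algebra k K]

theorem mem_prinDivs_iff (h : FF k K) (D : Divisor k K) :
    D ∈ prinDivs k K ↔ ∃ x : K, x ≠ 0 ∧ D = FunFld.div k x := by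
  constructor
  · intro hD
    induction hD using AddSubgroup.closure_induction with
    | mem D hD =>
      obtain ⟨x, rfl⟩ := hD
      rcases eq_or_ne x 0 with rfl | hx
      · exact ⟨1, one_ne_zero, by ext P; simp [div_apply h]⟩
      · exact ⟨x, hx, rfl⟩
    | zero => exact ⟨1, one_ne_zero, by ext P; simp [div_apply h]⟩
    | add D E _ _ hD hE =>
      obtain ⟨x, hx, rfl⟩ := hD
      obtain ⟨y, hy, rfl⟩ := hE
      exact ⟨x * y, mul_ne_zero hx hy, (div_mul h hx hy).symm⟩
    | neg D _ hD =>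
      obtain ⟨x, hx, rfl⟩ := hD
      exact ⟨x⁻¹, inv_ne_zero hx, (div_inv h x).symm⟩
  · rintro ⟨x, -, rfl⟩
    exact AddSubgroup.subset_closure ⟨x, rfl⟩

theorem le'_iff_mem_prinDivs (h : FF k K) (D E : Divisor k K) : LE' D E ↔ E - D ∈ prinDivs k K := by
  rw [mem_prinDivs_iff h]
  exact ⟨fun ⟨x, hx, e⟩ => ⟨x, hx, by rw [e, add_sub_cancel_left]⟩,
    fun ⟨x, hx, e⟩ => ⟨x, hx, by rw [← e, add_sub_cancel]⟩⟩

theorem degHom_apply (D : Divisor k K) : degHom k K D = D.deg := rfl

/-- The number of effective divisors in a linear system over a finite field. -/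
theorem card_linearSystem [Finite k] (hK : IsFunctionField k K) (D : Divisor k K) :
    Finite {E : Divisor k K // 0 ≤ E ∧ LE' D E} ∧
    (Nat.card k - 1) * Nat.card {E : Divisor k K // 0 ≤ E ∧ LE' D E} + 1 = Nat.card k ^ ell D := by
  have h := ff hK
  haveI := finiteDimensional_L h D
  haveI : Finite (FunFld.L D) := Module.finite_of_finite k
  let T := {E : Divisor k K // 0 ≤ E ∧ LE' D E}
  let N := {x : FunFld.L D // x ≠ 0}
  choose s hs0 hsE using fun E : T => E.2.2
  have hsL : ∀ E : T, s E ∈ FunFld.L D := fun E => (mem_L_iff_div h (hs0 E)).2 (hsE E ▸ E.2.1)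
  let f : T × kˣ → N := fun p =>
    ⟨(p.2 : k) • ⟨s p.1, hsL p.1⟩, smul_ne_zero p.2.ne_zero fun e => hs0 p.1 (congrArg Subtype.val e)⟩
  have hval : ∀ p, ((f p : FunFld.L D) : K) = algebraMap k K (p.2 : k) * s p.1 := fun p => by
    show (p.2 : k) • s p.1 = _
    rw [Algebra.smul_def]
  have hdiv : ∀ p, FunFld.div k ((f p : FunFld.L D) : K) = (p.1 : Divisor k K) - D := fun p => by
    rw [hval, div_mul h (by simp) (hs0 p.1), eq_sub_iff_add_eq']
    refine (hsE p.1).symm ▸ ?_
    congr 1
    ext P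
    simp [div_apply h]
  have hbij : Function.Bijective f := by
    constructor
    · intro p p' e
      have h1 : p.1 = p'.1 := Subtype.ext (sub_left_inj.1 ((hdiv p).symm.trans
        ((congrArg (fun z : N => FunFld.div k ((z : FunFld.L D) : K)) e).trans (hdiv p'))))
      obtain ⟨E, c⟩ := p
      obtain ⟨E', c'⟩ := p'
      cases h1
      have h2 := congrArg (fun z : N => ((z : FunFld.L D) : K)) e
      simp only [hval] at h2
      exact Prod.ext rfl (Units.ext ((algebraMap k K).injective (mul_right_cancel₀ (hs0 E) h2)))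
    · rintro ⟨⟨x, hx⟩, hx0⟩
      have hx0' : x ≠ 0 := fun e => hx0 (Subtype.ext e)
      let E : T := ⟨D + FunFld.div k x, (mem_L_iff_div h hx0').1 hx, x, hx0', rfl⟩
      have hu : x / s E ∈ FunFld.L (0 : Divisor k K) := by
        rw [mem_L_iff_div h (div_ne_zero hx0' (hs0 E)), div_eq_mul_inv, div_mul h hx0' (inv_ne_zero (hs0 E)), div_inv h,
          zero_add, ← add_left_cancel (show D + FunFld.div k x = D + FunFld.div k (s E) from hsE E), add_neg_cancel]
      rw [L_zero hK, Submodule.mem_one] at hu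
      obtain ⟨c, hc⟩ := hu
      have hc0 : c ≠ 0 := fun e => div_ne_zero hx0' (hs0 E) (by rw [← hc, e, map_zero])
      refine ⟨⟨E, Units.mk0 c hc0⟩, Subtype.ext (Subtype.ext ?_)⟩
      rw [hval]
      show algebraMap k K c * s E = x
      rw [hc, div_mul_cancel₀ _ (hs0 E)]
  have hfin : Finite T := by
    haveI : Finite (T × kˣ) := Finite.of_injective f hbij.1
    exact Finite.prod_left kˣ
  refine ⟨hfin, ?_⟩
  haveI := hfin
  haveI := Fintype.ofFinite k
  have h1 : Nat.card N + 1 = Nat.card k ^ ell D := by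
    rw [show ell D = Module.finrank k (FunFld.L D) from rfl, ← Module.natCard_eq_pow_finrank (K := k) (V := FunFld.L D)]
    classical
    haveI := Fintype.ofFinite (FunFld.L D)
    rw [Nat.card_eq_fintype_card, Nat.card_eq_fintype_card, Fintype.card_subtype_compl, Fintype.card_subtype_eq]
    have := Fintype.card_pos (α := FunFld.L D)
    omega
  rw [← h1, ← Nat.card_congr (Equiv.ofBijective f hbij), Nat.card_prod, Nat.card_units, mul_comm]

set_option maxHeartbeats 400000 in
theorem finite_deg_le [Finite k] (h : FF k K) (n : ℕ) : {P : Place k K | P.deg ≤ n}.Finite := by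
  classical
  obtain ⟨x, hx, -⟩ := id h
  let M := {m : k[X] // m.natDegree ≤ n}
  haveI : Finite M := Finite.of_injective (β := Fin (n + 1) → k) (fun m i => m.1.coeff i) fun a b e =>
    Subtype.ext (Polynomial.ext fun i => by
      by_cases hi : i < n + 1
      · exact congrFun e ⟨i, hi⟩
      · rw [Polynomial.coeff_eq_zero_of_natDegree_lt (a.2.trans_lt (by omega)),
          Polynomial.coeff_eq_zero_of_natDegree_lt (b.2.trans_lt (by omega))])
  refine ((finite_support_ord h x).union (Set.finite_iUnion fun m : M =>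
    finite_support_ord h (aeval x m.1))).subset fun P hP => ?_
  simp only [Set.mem_union, Set.mem_iUnion, Function.mem_support]
  by_cases h0 : P.ord x < 0
  · exact Or.inl h0.ne
  right
  have hx1 : P.1 x ≤ 1 := (ord_nonneg_iff P x).1 (not_lt.1 h0)
  haveI hfd : FiniteDimensional k (IsLocalRing.ResidueField P.O) := h.finite_residueField P
  set a := IsLocalRing.residue P.O ⟨x, hx1⟩
  have ha : IsIntegral k a := @Algebra.IsIntegral.isIntegral _ _ _ _ _ (@Algebra.IsIntegral.of_finite _ _ _ _ _ hfd) a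
  have hdeg : (minpoly k a).natDegree ≤ n :=
    (@minpoly.natDegree_le _ _ _ _ _ hfd a).trans hP
  refine ⟨⟨minpoly k a, hdeg⟩, ?_⟩
  show P.ord (aeval x (minpoly k a)) ≠ 0
  have hne : aeval x (minpoly k a) ≠ 0 := fun e => minpoly.ne_zero ha
    (transcendental_iff_injective.1 hx (e.trans (map_zero _).symm))
  refine ((val_lt_one_iff' P hne).1 ?_).ne'
  have h2 := aeval_algHom_apply (inclAlg P) ⟨x, hx1⟩ (minpoly k a)
  rw [inclAlg_apply] at h2
  rw [h2]
  refine (residue_eq_zero_iff P (aeval (⟨x, hx1⟩ : P.O) (minpoly k a))).1 ?_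
  let ρ : P.O →ₐ[k] IsLocalRing.ResidueField P.O := { IsLocalRing.residue P.O with commutes' := fun _ => rfl }
  exact (aeval_algHom_apply ρ ⟨x, hx1⟩ (minpoly k a)).symm.trans (minpoly.aeval k a)

theorem finite_effDiv [Finite k] (h : FF k K) (n : ℤ) : Finite {D : Divisor k K // 0 ≤ D ∧ D.deg = n} := by
  classical
  haveI : Finite {P : Place k K | P.deg ≤ n.toNat} := (finite_deg_le h n.toNat).to_subtype
  have hb : ∀ (D : Divisor k K), 0 ≤ D → D.deg = n → ∀ P, D P * (P.deg : ℤ) ≤ n := fun D hD hn P => by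
    have h1 := deg_mono (show Finsupp.single P (D P) ≤ D from fun Q => by
      rw [Finsupp.single_apply]; split_ifs with e
      · rw [e]
      · exact hD Q)
    rwa [deg_single, hn] at h1
  refine Finite.of_injective (β := {P : Place k K | P.deg ≤ n.toNat} → Fin (n.toNat + 1))
    (fun D P => ⟨(D.1 P.1).toNat, ?_⟩) ?_
  · have := hb D.1 D.2.1 D.2.2 P.1
    have := deg_pos h P.1
    have := D.2.1 P.1
    simp only [Finsupp.coe_zero, Pi.zero_apply] at this
    have h3 : D.1 P.1 ≤ D.1 P.1 * (P.1.deg : ℤ) := le_mul_of_one_le_right this (by omega)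
    omega
  · intro D D' e
    refine Subtype.ext (Finsupp.ext fun P => ?_)
    have h1 := D.2.1 P
    have h2 := D'.2.1 P
    simp only [Finsupp.coe_zero, Pi.zero_apply] at h1 h2
    by_cases hP : P.deg ≤ n.toNat
    · have := congrArg (fun f => (f (⟨P, hP⟩ : {P : Place k K | P.deg ≤ n.toNat}) : ℕ)) e
      simp only at this
      omega
    · have key : ∀ {D : Divisor k K}, 0 ≤ D → D.deg = n → D P = 0 := fun {D} hD hn => by
        have h1 := hb D hD hn P
        have h2 := hD P
        simp only [Finsupp.coe_zero, Pi.zero_apply] at h2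
        by_contra hne
        have : (P.deg : ℤ) ≤ D P * P.deg := le_mul_of_one_le_left (Int.natCast_nonneg _) (by omega)
        omega
      rw [key D.2.1 D.2.2, key D'.2.1 D'.2.2]

variable (k K) in
/-- Divisor classes of degree zero. -/
abbrev Cl0 : Type _ := (degHom k K).ker ⧸ (prinDivs k K).addSubgroupOf (degHom k K).ker

/-- A representative of a class. -/
noncomputable def rep (c : Cl0 k K) : Divisor k K := (Quotient.out c).1

theorem deg_rep (c : Cl0 k K) : (rep c).deg = 0 := (Quotient.out c).2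

theorem le'_rep_iff (h : FF k K) (c : Cl0 k K) (B E : Divisor k K) (hE : E - B ∈ (degHom k K).ker) :
    LE' (rep c + B) E ↔ (QuotientAddGroup.mk ⟨E - B, hE⟩ : Cl0 k K) = c := by
  conv_rhs => rw [← QuotientAddGroup.out_eq' c]
  rw [eq_comm, QuotientAddGroup.eq, AddSubgroup.mem_addSubgroupOf, le'_iff_mem_prinDivs h]
  show E - (rep c + B) ∈ prinDivs k K ↔ -rep c + (E - B) ∈ prinDivs k K
  rw [show E - (rep c + B) = -rep c + (E - B) by abel]

theorem finite_cl0 [Finite k] (hK : IsFunctionField k K) : Finite (Cl0 k K) := by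
  have h := ff hK
  obtain ⟨B, -, hB⟩ := exists_ge_deg_ge h (0 : Divisor k K) (genus k K)
  haveI := finite_effDiv h B.deg
  have hmem : ∀ E : {E : Divisor k K // 0 ≤ E ∧ E.deg = B.deg}, E.1 - B ∈ (degHom k K).ker := fun E => by
    rw [AddMonoidHom.mem_ker, degHom_apply, deg_sub, E.2.2, sub_self]
  refine Finite.of_surjective (fun E => (QuotientAddGroup.mk ⟨E.1 - B, hmem E⟩ : Cl0 k K)) fun c => ?_
  have hl : 0 < ell (rep c + B) := by
    have := delta_le_genus h (rep c + B)
    rw [delta, deg_add, deg_rep] at this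
    omega
  obtain ⟨E, hE, hDE⟩ := exists_effective h hl
  have hd : E.deg = B.deg := by rw [← hDE.deg h, deg_add, deg_rep, zero_add]
  exact ⟨⟨E, hE, hd⟩, (le'_rep_iff h c B E (hmem ⟨E, hE, hd⟩)).1 hDE⟩

theorem classNum_eq : classNum k K = Nat.card (Cl0 k K) := rfl

theorem classNum_pos [Finite k] (hK : IsFunctionField k K) : 0 < classNum k K := by
  haveI := finite_cl0 hK
  exact Nat.card_pos

/-- Counting effective divisors of degree `deg B` class by class. -/
theorem card_effDiv [Finite k] (hK : IsFunctionField k K) [Fintype (Cl0 k K)] (B : Divisor k K) :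
    ((Nat.card k : ℤ) - 1) * (Nat.card {E : Divisor k K // 0 ≤ E ∧ E.deg = B.deg} : ℤ) =
      ∑ c : Cl0 k K, ((Nat.card k : ℤ) ^ ell (rep c + B) - 1) := by
  have h := ff hK
  haveI := finite_effDiv h B.deg
  have hmem : ∀ E : {E : Divisor k K // 0 ≤ E ∧ E.deg = B.deg}, E.1 - B ∈ (degHom k K).ker := fun E => by
    rw [AddMonoidHom.mem_ker, degHom_apply, deg_sub, E.2.2, sub_self]
  let g : {E : Divisor k K // 0 ≤ E ∧ E.deg = B.deg} → Cl0 k K := fun E => QuotientAddGroup.mk ⟨E.1 - B, hmem E⟩
  let e : ∀ c, {E // g E = c} ≃ {E : Divisor k K // 0 ≤ E ∧ LE' (rep c + B) E} := fun c =>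
    { toFun := fun E => ⟨E.1.1, E.1.2.1, (le'_rep_iff h c B _ (hmem E.1)).2 E.2⟩
      invFun := fun E => ⟨⟨E.1, E.2.1, by rw [← E.2.2.deg h, deg_add, deg_rep, zero_add]⟩,
        (le'_rep_iff h c B _ _).1 E.2.2⟩
      left_inv := fun E => rfl
      right_inv := fun E => rfl }
  haveI : ∀ c, Finite {E // g E = c} := fun c => inferInstance
  rw [Nat.card_congr (Equiv.sigmaFiberEquiv g).symm, Nat.card_sigma, Nat.cast_sum, Finset.mul_sum]
  refine Finset.sum_congr rfl fun c _ => ?_
  rw [Nat.card_congr (e c)]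
  have h1 := (card_linearSystem hK (rep c + B)).2
  have hq : 1 ≤ Nat.card k := Nat.card_pos
  have h2 := congrArg (fun m : ℕ => (m : ℤ)) h1
  push_cast [Nat.cast_sub hq] at h2
  rw [← h2]; ring

theorem effDivCount_eq_zero {n : ℕ} (hn : ¬ ∃ D : Divisor k K, D.deg = (n : ℤ)) : effDivCount k K n = 0 := by
  haveI : IsEmpty {D : Divisor k K // 0 ≤ D ∧ D.deg = (n : ℤ)} := ⟨fun D => hn ⟨D.1, D.2.2⟩⟩
  exact Nat.card_of_isEmpty

/-- The number of effective divisors of large degree. -/
theorem effDivCount_eq [Finite k] (hK : IsFunctionField k K) {n : ℕ} (hn : 2 * genus k K ≤ n + 1)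
    (hex : ∃ D : Divisor k K, D.deg = (n : ℤ)) :
    ((Nat.card k : ℤ) - 1) * (effDivCount k K n : ℤ) =
      (classNum k K : ℤ) * ((Nat.card k : ℤ) ^ (n + 1 - genus k K) - 1) := by
  obtain ⟨B, hB⟩ := hex
  haveI := finite_cl0 hK
  haveI := Fintype.ofFinite (Cl0 k K)
  have h1 := card_effDiv hK B
  rw [hB] at h1
  rw [effDivCount, h1, Finset.sum_congr rfl (fun c _ => ?_), Finset.sum_const, Finset.card_univ, nsmul_eq_mul,
    classNum_eq, Nat.card_eq_fintype_card]
  have hd : (rep c + B).deg = n := by rw [deg_add, deg_rep, zero_add, hB]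
  have h2 := ell_of_large_deg hK (rep c + B) (by rw [hd]; omega)
  rw [hd] at h2
  congr 2
  omega

end Groth.Agent.GeomFF26
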