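import Groth.Agent.Lib.GeomFF26.Perfect
import Groth.Agent.Lib.GeomFF26.SepPlace
import Mathlib.RingTheory.Unramified.Field
import Mathlib.RingTheory.Etale.Field
import Mathlib.LinearAlgebra.TensorProduct.Tower
import Mathlib.RingTheory.PolynomialAlgebra
import Mathlib.FieldTheory.PurelyInseparable.Basic
import Mathlib.FieldTheory.SeparableClosure
import Mathlib.FieldTheory.RatFunc.AsPolynomial

/-! # Separably generated with closed constants implies geometric -/

namespace Groth.Agent.GeomFF26

open FunFld Polynomial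
open scoped TensorProduct IntermediateField

universe u v

variable {k : Type u} {K : Type v} [Field k] [Field K] [Algebra k K]

/-- The constants of a rational function field may be extended. -/
theorem isField_adjoin_tensor {x : K} (hx : Transcendental k x) (L : Type u) [Field L] [Algebra k L]
    [FiniteDimensional k L] : IsField (k⟮x⟯ ⊗[k] L) := by
  classical
  set E := k⟮x⟯
  have hinjk : Function.Injective (aeval (IntermediateField.AdjoinSimple.gen k x) : k[X] →ₐ[k] E) := by
    refine transcendental_iff_injective.1 fun ha => hx ?_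
    exact ha.algebraMap (A := K)
  let gen : E := IntermediateField.AdjoinSimple.gen k x
  let X' : RatFunc L := RatFunc.X
  have hXinj : Function.Injective (aeval X' : k[X] →ₐ[k] RatFunc L) := by
    intro p q hpq
    apply map_injective _ (algebraMap k L).injective
    apply RatFunc.algebraMap_injective L
    rwa [← RatFunc.aeval_X_left_eq_algebraMap, ← RatFunc.aeval_X_left_eq_algebraMap, aeval_map_algebraMap,
      aeval_map_algebraMap]
  have hX : Transcendental k X' := transcendental_iff_injective.2 hXinj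
  let eE : RatFunc k →ₐ[k] E := RatFunc.liftAlgHom (aeval gen) (nonZeroDivisors_le_comap_nonZeroDivisors_of_injective _ hinjk)
  let eX : RatFunc k →ₐ[k] RatFunc L := RatFunc.liftAlgHom (aeval X') (nonZeroDivisors_le_comap_nonZeroDivisors_of_injective _ hXinj)
  have hEsurj : Function.Surjective eE := by
    intro z
    obtain ⟨r, s, hrs⟩ := (IntermediateField.mem_adjoin_simple_iff k (z : K)).1 z.2
    refine ⟨algebraMap _ _ r / algebraMap _ _ s, Subtype.ext ?_⟩
    rw [hrs, RatFunc.liftAlgHom_apply_div]
    push_cast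
    simp [gen, ← IntermediateField.aeval_coe]
  let e : RatFunc k ≃ₐ[k] E := AlgEquiv.ofBijective eE ⟨eE.toRingHom.injective, hEsurj⟩
  let Ψ : E ⊗[k] L →ₐ[k] RatFunc L :=
    Algebra.TensorProduct.lift (eX.comp e.symm.toAlgHom) (IsScalarTower.toAlgHom k L (RatFunc L))
      (fun _ _ => Commute.all _ _)
  let ι : k[X] ⊗[k] L →ₐ[k] E ⊗[k] L := Algebra.TensorProduct.map (aeval gen) (AlgHom.id k L)
  let P : k[X] ⊗[k] L →ₐ[k] L[X] :=
    ((polyEquivTensor k L).symm.toAlgHom.restrictScalars k).comp (Algebra.TensorProduct.comm k k[X] L).toAlgHom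
  have hP : ∀ w, Ψ (ι w) = algebraMap L[X] (RatFunc L) (P w) := by
    intro w
    induction w using TensorProduct.induction_on with
    | zero => simp
    | add a b ha hb => simp [map_add, ha, hb]
    | tmul p a =>
      have hp : e.symm (aeval gen p) = algebraMap k[X] (RatFunc k) p := by
        apply e.injective
        rw [e.apply_symm_apply]
        show aeval gen p = eE _
        rw [show algebraMap k[X] (RatFunc k) p = algebraMap _ _ p / algebraMap k[X] _ 1 by simp,
          RatFunc.liftAlgHom_apply_div, map_one, div_one]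
      have hq : eX (algebraMap k[X] (RatFunc k) p) = algebraMap L[X] (RatFunc L) (p.map (algebraMap k L)) := by
        rw [show algebraMap k[X] (RatFunc k) p = algebraMap _ _ p / algebraMap k[X] _ 1 by simp,
          RatFunc.liftAlgHom_apply_div, map_one, div_one, ← RatFunc.aeval_X_left_eq_algebraMap, aeval_map_algebraMap]
      show eX (e.symm (aeval gen p)) * algebraMap L (RatFunc L) a =
        algebraMap L[X] (RatFunc L) ((polyEquivTensor k L).symm (Algebra.TensorProduct.comm k k[X] L (p ⊗ₜ a)))
      rw [hp, hq, Algebra.TensorProduct.comm_tmul, polyEquivTensor_symm_apply_tmul_eq_smul]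
      rw [Algebra.smul_def, map_mul, ← IsScalarTower.algebraMap_apply, mul_comm]
  have hform : ∀ z : E ⊗[k] L, ∃ (g : k[X]) (w : k[X] ⊗[k] L), g ≠ 0 ∧ z * ι (g ⊗ₜ 1) = ι w := by
    intro z
    induction z using TensorProduct.induction_on with
    | zero => exact ⟨1, 0, one_ne_zero, by simp⟩
    | add a b ha hb =>
      obtain ⟨g, w, hg, h1⟩ := ha
      obtain ⟨g', w', hg', h2⟩ := hb
      refine ⟨g * g', w * (g' ⊗ₜ 1) + w' * (g ⊗ₜ 1), mul_ne_zero hg hg', ?_⟩
      rw [map_add, map_mul, map_mul, ← h1, ← h2,
        show ((g * g') ⊗ₜ[k] (1 : L)) = (g ⊗ₜ 1) * (g' ⊗ₜ 1) by simp, map_mul]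
      ring
    | tmul a b =>
      obtain ⟨r, s, hrs⟩ := (IntermediateField.mem_adjoin_simple_iff k (a : K)).1 a.2
      rcases eq_or_ne (aeval x s) 0 with h0 | h0
      · refine ⟨1, 0, one_ne_zero, ?_⟩
        rw [h0, div_zero] at hrs
        rw [show a = 0 from Subtype.ext hrs, TensorProduct.zero_tmul, zero_mul, map_zero]
      refine ⟨s, r ⊗ₜ b, fun hs => h0 (by rw [hs, map_zero]), ?_⟩
      simp only [ι, Algebra.TensorProduct.map_tmul, AlgHom.id_apply, Algebra.TensorProduct.tmul_mul_tmul, mul_one]
      congr 1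
      refine Subtype.ext ?_
      push_cast
      rw [hrs]
      simp [gen, ← IntermediateField.aeval_coe, div_mul_cancel₀ _ h0]
  have hinj : Function.Injective Ψ := by
    rw [injective_iff_map_eq_zero]
    intro z hz
    obtain ⟨g, w, hg, hw⟩ := hform z
    have h1 := congrArg Ψ hw
    rw [map_mul, hz, zero_mul, hP] at h1
    have h2 : P w = 0 := (map_eq_zero_iff _ (RatFunc.algebraMap_injective L)).1 h1.symm
    have h3 : w = 0 := (Algebra.TensorProduct.comm k k[X] L).injective ((polyEquivTensor k L).symm.injective (by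
      simpa [P] using h2))
    have h4 : z * ((aeval gen g) ⊗ₜ[k] (1 : L)) = 0 := by
      simpa [ι, h3] using hw
    have h5 : IsUnit ((aeval gen g) ⊗ₜ[k] (1 : L)) :=
      (isUnit_iff_ne_zero.2 (fun h0 => hg (hinjk (h0.trans (map_zero _).symm)))).map
        (Algebra.TensorProduct.includeLeft : E →ₐ[k] E ⊗[k] L)
    obtain ⟨v, hv⟩ := h5.exists_right_inv
    calc z = z * (((aeval gen g) ⊗ₜ[k] (1 : L)) * v) := by rw [hv, mul_one]
      _ = 0 := by rw [← mul_assoc, h4, zero_mul]
  haveI : IsDomain (E ⊗[k] L) := hinj.isDomain Ψ.toRingHom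
  exact (fieldOfFiniteDimensional E (E ⊗[k] L)).toIsField

theorem isReduced_tensor_of_field (E F A : Type*) [Field E] [Field F] [Algebra E F] [CommRing A] [Algebra E A]
    [Algebra.FormallyUnramified E A] [Algebra.EssFiniteType E A] : IsReduced (F ⊗[E] A) :=
  Algebra.FormallyUnramified.isReduced_of_field F _

theorem isReduced_tensor_tower {k : Type*} (E K L : Type*) [Field k] [Field E] [Field K] [Field L] [Algebra k E]
    [Algebra E K] [Algebra k K] [IsScalarTower k E K] [Algebra k L] (hE : IsField (E ⊗[k] L))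
    [Algebra.FormallyUnramified E K] [Algebra.EssFiniteType E K] : IsReduced (L ⊗[k] K) := by
  haveI : IsReduced ((E ⊗[k] L) ⊗[E] K) := @isReduced_tensor_of_field E (E ⊗[k] L) K _ hE.toField _ _ _ _ _
  let e : L ⊗[k] K ≃+* (E ⊗[k] L) ⊗[E] K :=
    ((Algebra.TensorProduct.comm k L K).toRingEquiv.trans
      (Algebra.TensorProduct.cancelBaseChange k E E K L).toRingEquiv.symm).trans
      (Algebra.TensorProduct.comm E K (E ⊗[k] L)).toRingEquiv
  exact isReduced_of_injective e e.injective

theorem isField_of_purelyInseparable {k : Type*} (S L K : Type*) [Field k] [Field S] [Field L] [Field K]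
    [Algebra k S] [Algebra S L] [Algebra k L] [IsScalarTower k S L] [Algebra k K] [IsPurelyInseparable S L]
    [IsReduced (L ⊗[k] K)] (hS : IsField (S ⊗[k] K)) : IsField (L ⊗[k] K) := by
  haveI : Nontrivial (L ⊗[k] K) :=
    (Algebra.TensorProduct.includeRight_injective (R := k) (A := L) (B := K) (algebraMap k L).injective).nontrivial
  let q := ringExpChar k
  haveI : ExpChar k q := inferInstance
  haveI : ExpChar (L ⊗[k] K) q := expChar_of_injective_algebraMap (algebraMap k (L ⊗[k] K)).injective q
  let ι : S ⊗[k] K →ₐ[k] L ⊗[k] K := Algebra.TensorProduct.map (IsScalarTower.toAlgHom k S L) (AlgHom.id k K)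
  haveI : ExpChar S q := expChar_of_injective_algebraMap (algebraMap k S).injective q
  have hpow : ∀ z : L ⊗[k] K, ∃ n : ℕ, z ^ q ^ n ∈ ι.range := by
    intro z
    induction z using TensorProduct.induction_on with
    | zero => exact ⟨0, ⟨0, by simp⟩⟩
    | add a b ha hb =>
      obtain ⟨m, hm⟩ := ha
      obtain ⟨n, hn⟩ := hb
      refine ⟨m + n, ?_⟩
      rw [add_pow_expChar_pow]
      refine add_mem ?_ ?_
      · rw [pow_add, pow_mul]; exact pow_mem hm _
      · rw [pow_add, mul_comm, pow_mul]; exact pow_mem hn _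
    | tmul a b =>
      obtain ⟨n, s, hs⟩ := IsPurelyInseparable.pow_mem S q a
      refine ⟨n, s ⊗ₜ (b ^ q ^ n), ?_⟩
      rw [Algebra.TensorProduct.tmul_pow, ← hs]
      rfl
  refine ⟨⟨0, 1, zero_ne_one⟩, mul_comm, fun {z} hz => ?_⟩
  obtain ⟨n, w, hw⟩ := hpow z
  change ι w = z ^ q ^ n at hw
  have hw0 : w ≠ 0 := fun h0 => hz (eq_zero_of_pow_eq_zero (hw.symm.trans (by rw [h0, map_zero])))
  obtain ⟨w', hw'⟩ := hS.mul_inv_cancel hw0
  have hu : IsUnit (z ^ q ^ n) := hw ▸ (show IsUnit w from ⟨⟨w, w', hw', by rw [mul_comm]; exact hw'⟩, rfl⟩).map ι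
  have hu2 := (isUnit_pow_iff (pow_ne_zero n (expChar_pos k q).ne')).1 hu
  exact hu2.exists_right_inv


/-- Closed constants and a separating variable give a geometric function field. -/
theorem isGeometric_of_separating (hcl : ∀ y : K, IsAlgebraic k y → y ∈ Set.range (algebraMap k K))
    {x : K} (hx : Transcendental k x) [FiniteDimensional k⟮x⟯ K] [Algebra.IsSeparable k⟮x⟯ K] :
    IsGeometric k K := by
  intro L _ _ hL
  haveI := hL
  haveI : Algebra.FormallyUnramified k⟮x⟯ K := Algebra.FormallyUnramified.of_isSeparable _ _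
  haveI : IsReduced (L ⊗[k] K) := isReduced_tensor_tower k⟮x⟯ K L (isField_adjoin_tensor hx L)
  exact isField_of_purelyInseparable (separableClosure k L) L K (isField_tensor hcl _)

end Groth.Agent.GeomFF26
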