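import Groth.Agent.Lib.GeomFF26.Schmidt
import Mathlib.RingTheory.PowerSeries.Trunc
import Mathlib.Algebra.Polynomial.Reverse
import Mathlib.Analysis.Complex.Polynomial.Basic
import Mathlib.RingTheory.Polynomial.Vieta

/-! # The numerator of the zeta function -/

namespace Groth.Agent.GeomFF26

open WithZero FunFld FunField
open scoped Multiplicative

universe u v

variable {k : Type u} {K : Type v} [Field k] [Field K] [Algebra k K]

variable (k K) in
/-- Effective divisors of integral degree, counted. -/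
noncomputable def aZ (n : ℤ) : ℤ := Nat.card {D : Divisor k K // 0 ≤ D ∧ D.deg = n}

variable (k K) in
/-- `(q - 1) a(n) + h`. -/
noncomputable def sZ (n : ℤ) : ℤ := ((Nat.card k : ℤ) - 1) * aZ k K n + classNum k K

variable (k K) in
/-- The coefficients of the numerator. -/
noncomputable def bZ (n : ℤ) : ℤ :=
  aZ k K n - ((Nat.card k : ℤ) + 1) * aZ k K (n - 1) + (Nat.card k : ℤ) * aZ k K (n - 2)

theorem aZ_neg {n : ℤ} (hn : n < 0) : aZ k K n = 0 := by
  haveI : IsEmpty {D : Divisor k K // 0 ≤ D ∧ D.deg = n} := ⟨fun D => by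
    have := deg_nonneg D.2.1
    rw [D.2.2] at this
    omega⟩
  rw [aZ, Nat.card_of_isEmpty, Nat.cast_zero]

theorem aZ_zero (hK : IsFunctionField k K) : aZ k K 0 = 1 := by
  haveI : Unique {D : Divisor k K // 0 ≤ D ∧ D.deg = (0 : ℤ)} :=
    { default := ⟨0, le_rfl, deg_zero⟩
      uniq := fun D => Subtype.ext (eq_of_le_of_deg (ff hK) D.2.1 (by rw [D.2.2, deg_zero])).symm }
  rw [aZ, Nat.card_unique, Nat.cast_one]

theorem coeff_numerZ (n : ℕ) : PowerSeries.coeff n (numerZ k K) = bZ k K n := by
  have hshift : ∀ j : ℕ, PowerSeries.coeff n (PowerSeries.X ^ j * zetaZ k K) = aZ k K ((n : ℤ) - j) := by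
    intro j
    rw [PowerSeries.coeff_X_pow_mul']
    split_ifs with hj
    · rw [zetaZ, PowerSeries.coeff_mk, show (n : ℤ) - j = ((n - j : ℕ) : ℤ) by omega]
      rfl
    · rw [aZ_neg (by omega)]
  have e : numerZ k K = zetaZ k K - PowerSeries.C ((Nat.card k : ℤ) + 1) * (PowerSeries.X ^ 1 * zetaZ k K) +
      PowerSeries.C (Nat.card k : ℤ) * (PowerSeries.X ^ 2 * zetaZ k K) := by
    rw [numerZ, map_add, map_one]; ring
  rw [e, map_add, map_sub, PowerSeries.coeff_C_mul, PowerSeries.coeff_C_mul, hshift, hshift, bZ]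
  have h0 := hshift 0
  rw [pow_zero, one_mul, Nat.cast_zero, sub_zero] at h0
  rw [h0]
  rfl

theorem q_sub_one_mul_bZ (n : ℤ) :
    ((Nat.card k : ℤ) - 1) * bZ k K n =
      sZ k K n - ((Nat.card k : ℤ) + 1) * sZ k K (n - 1) + (Nat.card k : ℤ) * sZ k K (n - 2) := by
  simp only [sZ, bZ]; ring

variable [Finite k]

theorem sum_ell_eq_sZ (hK : IsFunctionField k K) [Fintype (Cl0 k K)] (B : Divisor k K) :
    sZ k K B.deg = ∑ c : Cl0 k K, (Nat.card k : ℤ) ^ ell (rep c + B) := by
  rw [sZ, aZ, card_effDiv hK B, Finset.sum_sub_distrib, Finset.sum_const, Finset.card_univ, nsmul_eq_mul, mul_one,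
    classNum_eq, Nat.card_eq_fintype_card (α := Cl0 k K), sub_add_cancel]

theorem sZ_of_large (hK : IsFunctionField k K) {n : ℤ} (hn : 2 * (genus k K : ℤ) - 1 ≤ n) :
    sZ k K n = classNum k K * (Nat.card k : ℤ) ^ (n + 1 - genus k K).toNat := by
  obtain ⟨B, rfl⟩ := deg_surjective hK n
  haveI := finite_cl0 hK
  haveI := Fintype.ofFinite (Cl0 k K)
  rw [sum_ell_eq_sZ hK B, Finset.sum_congr rfl fun c _ => ?_, Finset.sum_const, Finset.card_univ, nsmul_eq_mul,
    classNum_eq, Nat.card_eq_fintype_card (α := Cl0 k K)]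
  have hd : (rep c + B).deg = B.deg := by rw [deg_add, deg_rep, zero_add]
  have h2 := ell_of_large_deg hK (rep c + B) (by rw [hd]; omega)
  rw [hd] at h2
  congr 1
  omega

theorem sZ_functional (hK : IsFunctionField k K) (n : ℤ) :
    (sZ k K n : ℚ) = (Nat.card k : ℚ) ^ (n + 1 - (genus k K : ℤ)) * sZ k K (2 * genus k K - 2 - n) := by
  obtain ⟨B, rfl⟩ := deg_surjective hK n
  obtain ⟨B', hB'⟩ := deg_surjective hK (2 * (genus k K : ℤ) - 2 - B.deg)
  obtain ⟨C, hC⟩ := exists_isCanonical hK
  have h := ff hK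
  haveI := finite_cl0 hK
  haveI := Fintype.ofFinite (Cl0 k K)
  have hCd := (isCanonical_deg hK hC).2
  have h0 : C - B - B' ∈ (degHom k K).ker := by
    rw [AddMonoidHom.mem_ker, degHom_apply, deg_sub, deg_sub, hCd, hB']; ring
  set c₀ : Cl0 k K := QuotientAddGroup.mk ⟨C - B - B', h0⟩
  rw [← hB', sum_ell_eq_sZ hK B, sum_ell_eq_sZ hK B', ← Equiv.sum_comp (Equiv.subLeft c₀)
    (fun c => (Nat.card k : ℤ) ^ ell (rep c + B'))]
  push_cast
  rw [Finset.mul_sum]
  refine Finset.sum_congr rfl fun c _ => ?_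
  have hq : (Nat.card k : ℚ) ≠ 0 := by exact_mod_cast Nat.card_pos.ne'
  have hker : C - (rep c + B) - B' ∈ (degHom k K).ker := by
    rw [AddMonoidHom.mem_ker, degHom_apply, deg_sub, deg_sub, deg_add, deg_rep, hCd, hB']; ring
  have hle : LE' (rep (c₀ - c) + B') (C - (rep c + B)) := by
    rw [le'_rep_iff h _ B' _ hker]
    conv_rhs => rw [← QuotientAddGroup.out_eq' c]
    rw [← QuotientAddGroup.mk_sub]
    refine congrArg _ (Subtype.ext ?_)
    show C - (rep c + B) - B' = C - B - B' - rep c
    abel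
  have hrr := riemann_roch hK hC (rep c + B)
  rw [deg_add, deg_rep, zero_add, ← hle.ell h] at hrr
  simp only [Equiv.subLeft_apply]
  rw [← zpow_natCast, ← zpow_natCast, ← zpow_add₀ hq, hrr]

theorem q_sub_one_ne : ((Nat.card k : ℤ) - 1) ≠ 0 := by
  have : 1 < Nat.card k := Finite.one_lt_card
  omega

theorem bZ_of_large (hK : IsFunctionField k K) {n : ℤ} (hn : 2 * (genus k K : ℤ) < n) : bZ k K n = 0 := by
  refine (mul_eq_zero.1 (?_ : ((Nat.card k : ℤ) - 1) * bZ k K n = 0)).resolve_left q_sub_one_ne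
  rw [q_sub_one_mul_bZ, sZ_of_large hK (by omega), sZ_of_large hK (by omega), sZ_of_large hK (by omega)]
  obtain ⟨j, hj⟩ : ∃ j : ℕ, (n - 2 + 1 - genus k K).toNat = j := ⟨_, rfl⟩
  rw [show (n + 1 - (genus k K : ℤ)).toNat = j + 2 by omega, show (n - 1 + 1 - (genus k K : ℤ)).toNat = j + 1 by omega, hj]
  ring

theorem bZ_functional (hK : IsFunctionField k K) (i : ℤ) :
    (bZ k K (2 * genus k K - i) : ℚ) = (Nat.card k : ℚ) ^ ((genus k K : ℤ) - i) * bZ k K i := by
  have hq : (Nat.card k : ℚ) ≠ 0 := by exact_mod_cast Nat.card_pos.ne'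
  have hq1 : ((Nat.card k : ℚ) - 1) ≠ 0 := by exact_mod_cast q_sub_one_ne (k := k)
  have key : ∀ n : ℤ, ((Nat.card k : ℚ) - 1) * bZ k K n =
      sZ k K n - ((Nat.card k : ℚ) + 1) * sZ k K (n - 1) + (Nat.card k : ℚ) * sZ k K (n - 2) := fun n => by
    exact_mod_cast q_sub_one_mul_bZ (K := K) n
  refine mul_left_cancel₀ hq1 ?_
  rw [key, mul_left_comm, key, sZ_functional hK (2 * genus k K - i), sZ_functional hK (2 * genus k K - i - 1),
    sZ_functional hK (2 * genus k K - i - 2)]
  set g : ℤ := (genus k K : ℤ)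
  rw [show 2 * g - 2 - (2 * g - i) = i - 2 by ring, show 2 * g - 2 - (2 * g - i - 1) = i - 1 by ring,
    show 2 * g - 2 - (2 * g - i - 2) = i by ring, show 2 * g - i + 1 - g = (g - i) + 1 by ring,
    show 2 * g - i - 1 + 1 - g = g - i by ring, show 2 * g - i - 2 + 1 - g = (g - i) + (-1) by ring,
    zpow_add₀ hq, zpow_add₀ hq, zpow_one, zpow_neg_one]
  field_simp
  ring

theorem sum_bZ (N : ℕ) : ∑ i ∈ Finset.range (N + 1), bZ k K i = aZ k K N - (Nat.card k : ℤ) * aZ k K ((N : ℤ) - 1) := by
  induction N with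
  | zero => simp [bZ, aZ_neg (show (-1 : ℤ) < 0 by norm_num), aZ_neg (show (-2 : ℤ) < 0 by norm_num)]
  | succ N ih =>
    rw [Finset.sum_range_succ, ih, bZ]
    push_cast
    rw [show (N : ℤ) + 1 - 1 = N by ring, show (N : ℤ) + 1 - 2 = N - 1 by ring]
    ring

theorem sum_bZ_eq_classNum (hK : IsFunctionField k K) :
    ∑ i ∈ Finset.range (2 * genus k K + 1), bZ k K i = classNum k K := by
  rw [sum_bZ]
  refine mul_left_cancel₀ (q_sub_one_ne (k := k)) ?_
  have e : ((Nat.card k : ℤ) - 1) * (aZ k K (2 * genus k K : ℕ) - (Nat.card k : ℤ) * aZ k K (((2 * genus k K : ℕ) : ℤ) - 1)) =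
      sZ k K (2 * genus k K : ℕ) - (Nat.card k : ℤ) * sZ k K (((2 * genus k K : ℕ) : ℤ) - 1) +
        ((Nat.card k : ℤ) - 1) * classNum k K := by simp only [sZ]; ring
  rw [e, sZ_of_large hK (by omega), sZ_of_large hK (by omega),
    show ((((2 * genus k K : ℕ) : ℤ)) + 1 - genus k K).toNat = genus k K + 1 by omega,
    show (((2 * genus k K : ℕ) : ℤ) - 1 + 1 - genus k K).toNat = genus k K by omega]
  ring

theorem coeff_numerZ_zero (hK : IsFunctionField k K) : PowerSeries.coeff 0 (numerZ k K) = 1 := by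
  rw [coeff_numerZ, bZ]
  simp [aZ_zero hK, aZ_neg (show (-1 : ℤ) < 0 by norm_num), aZ_neg (show (-2 : ℤ) < 0 by norm_num)]

theorem functional_equation (hK : IsFunctionField k K) :
    (∀ n : ℕ, 2 * genus k K < n → PowerSeries.coeff n (numerZ k K) = 0) ∧
    PowerSeries.coeff (2 * genus k K) (numerZ k K) ≠ 0 ∧
    ∀ i : ℕ, i ≤ 2 * genus k K →
      (((PowerSeries.coeff (2 * genus k K - i) (numerZ k K) : ℤ)) : ℚ) =
        (Nat.card k : ℚ) ^ ((genus k K : ℤ) - i) * (((PowerSeries.coeff i (numerZ k K) : ℤ)) : ℚ) := by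
  have h3 : ∀ i : ℕ, i ≤ 2 * genus k K →
      (((PowerSeries.coeff (2 * genus k K - i) (numerZ k K) : ℤ)) : ℚ) =
        (Nat.card k : ℚ) ^ ((genus k K : ℤ) - i) * (((PowerSeries.coeff i (numerZ k K) : ℤ)) : ℚ) := by
    intro i hi
    rw [coeff_numerZ, coeff_numerZ, show (((2 * genus k K - i : ℕ)) : ℤ) = 2 * (genus k K : ℤ) - i by omega]
    exact bZ_functional hK i
  refine ⟨fun n hn => by rw [coeff_numerZ]; exact bZ_of_large hK (by omega), fun h0 => ?_, h3⟩
  have := h3 0 (Nat.zero_le _)
  rw [Nat.sub_zero, h0, coeff_numerZ_zero hK, Int.cast_zero, Int.cast_one, mul_one] at this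
  exact zpow_ne_zero _ (by exact_mod_cast Nat.card_pos.ne') this.symm

open Polynomial in
theorem exists_polynomial (hK : IsFunctionField k K) :
    ∃ p : Polynomial ℤ, (p : PowerSeries ℤ) = numerZ k K := by
  refine ⟨PowerSeries.trunc (2 * genus k K + 1) (numerZ k K), PowerSeries.ext fun n => ?_⟩
  rw [Polynomial.coeff_coe, PowerSeries.coeff_trunc]
  split_ifs with hn
  · rfl
  · exact ((functional_equation hK).1 n (by omega)).symm

theorem natDegree_eq (hK : IsFunctionField k K) {p : Polynomial ℤ} (hp : (p : PowerSeries ℤ) = numerZ k K) :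
    p.natDegree = 2 * genus k K := by
  refine Polynomial.natDegree_eq_of_le_of_coeff_ne_zero (Polynomial.natDegree_le_iff_coeff_eq_zero.2 fun n hn => ?_) ?_
  · rw [← Polynomial.coeff_coe, hp]; exact (functional_equation hK).1 n hn
  · rw [← Polynomial.coeff_coe, hp]; exact (functional_equation hK).2.1

theorem eval_one (hK : IsFunctionField k K) {p : Polynomial ℤ} (hp : (p : PowerSeries ℤ) = numerZ k K) :
    p.eval 1 = (classNum k K : ℤ) := by
  rw [Polynomial.eval_eq_sum_range' (n := 2 * genus k K + 1) (by rw [natDegree_eq hK hp]; omega), ← sum_bZ_eq_classNum hK]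
  refine Finset.sum_congr rfl fun i _ => ?_
  rw [one_pow, mul_one, ← Polynomial.coeff_coe, hp, coeff_numerZ]

theorem exists_pairing {q : ℂ} (hq : q ≠ 0) (m : ℕ) (M : Multiset ℂ) (hcard : M.card = 2 * m)
    (hprod : M.prod = q ^ m) (hinv : M.map (fun a => q / a) = M) :
    ∃ N : Multiset ℂ, N.card = m ∧ M = N + N.map fun a => q / a := by
  induction m generalizing M with
  | zero => exact ⟨0, rfl, by simpa using Multiset.card_eq_zero.1 (by simpa using hcard)⟩
  | succ m ih =>
    have h0 : ∀ a ∈ M, a ≠ 0 := fun a ha e => pow_ne_zero (m + 1) hq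
      (hprod.symm.trans (Multiset.prod_eq_zero (e ▸ ha)))
    have step : ∀ a ∈ M, q / a ∈ M.erase a → ∃ N : Multiset ℂ, N.card = m + 1 ∧ M = N + N.map fun a => q / a := by
      intro a ha ha'
      set R := (M.erase a).erase (q / a)
      have hM : M = a ::ₘ (q / a) ::ₘ R := by rw [Multiset.cons_erase ha', Multiset.cons_erase ha]
      have hqa : q / (q / a) = a := div_div_cancel₀ hq
      suffices hs : R.card = 2 * m ∧ R.prod = q ^ m ∧ R.map (fun a => q / a) = R by
        obtain ⟨N, hN, hRN⟩ := ih R hs.1 hs.2.1 hs.2.2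
        refine ⟨a ::ₘ N, by simp [hN], ?_⟩
        rw [hM, hRN, Multiset.map_cons, Multiset.cons_add, Multiset.add_cons]
      refine ⟨?_, ?_, ?_⟩
      · rw [hM] at hcard; simp only [Multiset.card_cons] at hcard; omega
      · rw [hM, Multiset.prod_cons, Multiset.prod_cons, ← mul_assoc, mul_div_cancel₀ _ (h0 a ha), pow_succ'] at hprod
        exact mul_left_cancel₀ hq hprod
      · rw [hM, Multiset.map_cons, Multiset.map_cons, hqa, Multiset.cons_swap] at hinv
        exact (Multiset.cons_inj_right _).1 ((Multiset.cons_inj_right _).1 hinv)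
    by_cases hne : ∃ a ∈ M, q / a ≠ a
    · obtain ⟨a, ha, hna⟩ := hne
      exact step a ha ((Multiset.mem_erase_of_ne hna).2 (hinv ▸ Multiset.mem_map_of_mem (fun a => q / a) ha))
    push Not at hne
    by_cases hdup : M.Nodup
    · exfalso
      have hsq : ∀ a ∈ M, a ^ 2 = q := fun a ha => by
        have := hne a ha
        rw [div_eq_iff (h0 a ha)] at this
        rw [this, sq]
      obtain ⟨a, ha⟩ : ∃ a, a ∈ M := Multiset.card_pos_iff_exists_mem.1 (by omega)
      classical
      have hsub : M.toFinset ⊆ ({a, -a} : Finset ℂ) := fun b hb => by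
        rw [Multiset.mem_toFinset] at hb
        simpa using sq_eq_sq_iff_eq_or_eq_neg.1 ((hsq b hb).trans (hsq a ha).symm)
      have hc : M.toFinset.card = 2 * (m + 1) := by rw [Multiset.toFinset_card_of_nodup hdup, hcard]
      have hle := (Finset.card_le_card hsub).trans Finset.card_le_two
      obtain rfl : m = 0 := by omega
      have heq := Finset.eq_of_subset_of_card_le hsub (Finset.card_le_two.trans (by omega))
      have hna : a ≠ -a := fun e => by
        have : ({a, -a} : Finset ℂ).card = 1 := by rw [← e]; simp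
        rw [← heq] at this
        omega
      have hp : M.toFinset.prod id = M.prod := by
        rw [Finset.prod, Multiset.toFinset_val, Multiset.dedup_eq_self.2 hdup, Multiset.map_id]
      rw [← hp, heq, Finset.prod_pair hna, id, id, pow_one, mul_neg, ← sq, hsq a ha] at hprod
      exact hq (by linear_combination (-(1 : ℂ) / 2) * hprod)
    · obtain ⟨a, ha⟩ : ∃ a, 2 ≤ M.count a := by
        classical
        simp only [Multiset.nodup_iff_count_le_one, not_forall, not_le] at hdup
        exact hdup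
      have haM : a ∈ M := Multiset.count_pos.1 (by omega)
      refine step a haM ?_
      rw [hne a haM]
      refine Multiset.count_pos.1 ?_
      rw [Multiset.count_erase_self]
      omega

open Polynomial in
theorem exists_reciprocal_roots (hK : IsFunctionField k K) :
    ∃ α : Fin (2 * genus k K) → ℂ, (∀ i, IsIntegral ℤ (α i)) ∧
      PowerSeries.map (Int.castRingHom ℂ) (numerZ k K) =
        ((∏ i, (1 - Polynomial.C (α i) * Polynomial.X) : Polynomial ℂ) : PowerSeries ℂ) ∧
      ∀ i, α i * α (Fin.rev i) = (Nat.card k : ℂ) := by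
  obtain ⟨p, hp⟩ := exists_polynomial hK
  set g := genus k K
  have hdeg := natDegree_eq hK hp
  obtain ⟨-, -, hfe⟩ := functional_equation hK
  have hp0 : p.coeff 0 = 1 := by rw [← Polynomial.coeff_coe, hp]; exact coeff_numerZ_zero hK
  set q : ℂ := (Nat.card k : ℂ)
  have hq : q ≠ 0 := Nat.cast_ne_zero.2 Nat.card_pos.ne'
  let r := p.reflect (2 * g)
  have hrm : r.Monic := monic_of_natDegree_le_of_coeff_eq_one (2 * g)
    (natDegree_le_iff_coeff_eq_zero.2 fun n hn => by
      rw [coeff_reflect, revAt_eq_self_of_lt hn]; exact coeff_eq_zero_of_natDegree_lt (by omega))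
    (by rw [coeff_reflect, revAt_le le_rfl, Nat.sub_self, hp0])
  have hrd : r.natDegree = 2 * g := natDegree_eq_of_le_of_coeff_ne_zero
    (natDegree_le_iff_coeff_eq_zero.2 fun n hn => by
      rw [coeff_reflect, revAt_eq_self_of_lt hn]; exact coeff_eq_zero_of_natDegree_lt (by omega))
    (by rw [coeff_reflect, revAt_le le_rfl, Nat.sub_self, hp0]; exact one_ne_zero)
  set rC := r.map (Int.castRingHom ℂ)
  set pC := p.map (Int.castRingHom ℂ)
  have hrC : rC.Monic := hrm.map _
  have hsp : rC = (rC.roots.map fun a => X - C a).prod :=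
    (IsAlgClosed.splits rC).eq_prod_roots_of_monic hrC
  have hcardM : rC.roots.card = 2 * g := by
    rw [IsAlgClosed.card_roots_eq_natDegree, natDegree_map_eq_of_injective (RingHom.injective_int _), hrd]
  have hfeC : ∀ i, i ≤ 2 * g → ((p.coeff (2 * g - i) : ℤ) : ℂ) = q ^ ((g : ℤ) - i) * ((p.coeff i : ℤ) : ℂ) := fun i hi => by
    have := congrArg (fun x : ℚ => (x : ℂ)) (hfe i hi)
    simp only [← hp, Polynomial.coeff_coe] at this
    push_cast at this
    exact this
  have hM0 : ∀ a ∈ rC.roots, a ≠ 0 := by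
    intro a ha h0
    subst h0
    rw [mem_roots hrC.ne_zero, IsRoot.def, ← coeff_zero_eq_eval_zero, coeff_map, coeff_reflect,
      revAt_le (Nat.zero_le _), Nat.sub_zero] at ha
    have := hfeC 0 (Nat.zero_le _)
    rw [Nat.sub_zero, hp0, Int.cast_one, mul_one] at this
    exact zpow_ne_zero _ hq (this.symm.trans ha)
  have hrev : ∀ M : Multiset ℂ, reflect M.card (M.map fun a => X - C a).prod = (M.map fun a => 1 - C a * X).prod := by
    intro M
    induction M using Multiset.induction_on with
    | empty => simp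
    | cons a M ih =>
      rw [Multiset.map_cons, Multiset.prod_cons, Multiset.map_cons, Multiset.prod_cons, Multiset.card_cons, ← ih,
        add_comm, reflect_mul _ _ (by rw [natDegree_X_sub_C]) (by rw [natDegree_multiset_prod_X_sub_C_eq_card])]
      congr 1
      simp [reflect_sub, reflect_C, X_mul_C]
  have hpC : pC = (rC.roots.map fun a => 1 - C a * X).prod := by
    rw [← hrev, ← hsp, hcardM]
    ext n
    rw [coeff_reflect, coeff_map, coeff_map, coeff_reflect, revAt_invol]
  have hfun : rC = C (q ^ g) * pC.comp (C q⁻¹ * X) := by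
    ext n
    rw [coeff_C_mul, comp_C_mul_X_coeff, coeff_map, coeff_map, coeff_reflect, eq_intCast, eq_intCast]
    by_cases hn : n ≤ 2 * g
    · rw [revAt_le hn, hfeC n hn, zpow_sub₀ hq, zpow_natCast, zpow_natCast, inv_pow]
      ring
    · rw [revAt_eq_self_of_lt (by omega), coeff_eq_zero_of_natDegree_lt (by omega)]
      simp
  have hinv : rC.roots.map (fun a => q / a) = rC.roots := by
    have key : ∀ M : Multiset ℂ, (∀ a ∈ M, a ≠ 0) → ∃ c : ℂ, c ≠ 0 ∧
        ((M.map fun a => 1 - C a * X).prod).comp (C q⁻¹ * X) = C c * ((M.map fun a => q / a).map fun a => X - C a).prod := by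
      intro M hM
      induction M using Multiset.induction_on with
      | empty => exact ⟨1, one_ne_zero, by simp⟩
      | cons a M ih =>
        obtain ⟨c, hc, hM'⟩ := ih fun b hb => hM b (Multiset.mem_cons_of_mem hb)
        have ha := hM a (Multiset.mem_cons_self a M)
        refine ⟨-(a / q) * c, mul_ne_zero (neg_ne_zero.2 (div_ne_zero ha hq)) hc, ?_⟩
        simp only [Multiset.map_cons, Multiset.prod_cons, mul_comp, hM', C_mul]
        have e : (1 - C a * X).comp (C q⁻¹ * X) = C (-(a / q)) * (X - C (q / a)) := by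
          simp only [sub_comp, one_comp, mul_comp, C_comp, X_comp]
          rw [mul_sub, ← C_mul, show -(a / q) * (q / a) = (-1 : ℂ) by field_simp, ← mul_assoc,
            ← C_mul, ← div_eq_mul_inv]
          simp only [C_neg, C_1]
          ring
        rw [e]; ring
    obtain ⟨c, hc, hc'⟩ := key rC.roots hM0
    have := congrArg Polynomial.roots hfun
    rw [hpC, hc', ← mul_assoc, ← C_mul, roots_C_mul _ (mul_ne_zero (pow_ne_zero _ hq) hc),
      roots_multiset_prod_X_sub_C] at this
    exact this.symm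
  have hprod : rC.roots.prod = q ^ g := by
    have := (IsAlgClosed.splits rC).coeff_zero_eq_prod_roots_of_monic hrC
    rw [natDegree_map_eq_of_injective (RingHom.injective_int _), hrd, pow_mul, neg_one_sq, one_pow, one_mul,
      coeff_map, coeff_reflect, revAt_le (Nat.zero_le _), Nat.sub_zero, eq_intCast] at this
    rw [← this]
    have h2 := hfeC 0 (Nat.zero_le _)
    rw [Nat.sub_zero, hp0, Int.cast_one, mul_one, Nat.cast_zero, sub_zero, zpow_natCast] at h2
    exact h2
  obtain ⟨N, hNc, hN⟩ := exists_pairing hq g rC.roots hcardM hprod hinv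
  set l := N.toList
  have hl : l.length = g := by rw [Multiset.length_toList, hNc]
  set L := l ++ (l.map fun a => q / a).reverse
  have hL : L.length = 2 * g := by simp [L, hl]; omega
  let α : Fin (2 * g) → ℂ := fun i => L[(i : ℕ)]'(by rw [hL]; exact i.2)
  have hval : (Finset.univ : Finset (Fin (2 * g))).val.map α = rC.roots := by
    rw [Fin.univ_val_map]
    have : List.ofFn α = L := List.ext_getElem (by simp [hL]) fun i h1 h2 => by simp [α]
    rw [this, hN, ← Multiset.coe_toList N, Multiset.map_coe, Multiset.coe_add, Multiset.coe_eq_coe]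
    exact List.Perm.append_left _ (List.reverse_perm _)
  refine ⟨α, fun i => ?_, ?_, fun i => ?_⟩
  · have hmem : α i ∈ rC.roots := hval ▸ Multiset.mem_map_of_mem α (Finset.mem_univ i)
    rw [mem_roots hrC.ne_zero, IsRoot.def, eval_map] at hmem
    exact ⟨r, hrm, by rwa [algebraMap_int_eq]⟩
  · rw [Finset.prod, show (Finset.univ.val.map fun i => 1 - C (α i) * X) =
      ((Finset.univ.val.map α).map fun a => 1 - C a * X) by rw [Multiset.map_map]; rfl, hval, ← hpC, ← hp,
      Polynomial.polynomial_map_coe]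
  · have hi := i.2
    simp only [α, Fin.val_rev, L]
    by_cases hig : (i : ℕ) < g
    · rw [List.getElem_append_left (by omega), List.getElem_append_right (by omega)]
      simp only [List.getElem_reverse, List.getElem_map, List.length_map, hl]
      have : g - 1 - (2 * g - (↑i + 1) - g) = i := by omega
      simp only [this]
      exact mul_div_cancel₀ _ (hM0 _ (by rw [hN]; exact Multiset.mem_add.2 (Or.inl (Multiset.mem_toList.1 (List.getElem_mem _)))))
    · rw [List.getElem_append_right (by omega), List.getElem_append_left (by omega)]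
      simp only [List.getElem_reverse, List.getElem_map, List.length_map, hl]
      have : g - 1 - (↑i - g) = 2 * g - (↑i + 1) := by omega
      simp only [this]
      exact div_mul_cancel₀ _ (hM0 _ (by rw [hN]; exact Multiset.mem_add.2 (Or.inl (Multiset.mem_toList.1 (List.getElem_mem _)))))

end Groth.Agent.GeomFF26
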